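import Mathlib
import Cfsg.Agent.H363.Frat
import Cfsg.Agent.H189.FeitTits
import Cfsg.Agent.H363.AltPrimes
import Cfsg.Agent.Ly.McL.Simple
import Cfsg.Agent.H357.Main
import Cfsg.Agent.S0256
import Cfsg.Agent.S0494
import Cfsg.Agent.S0497
import Cfsg.Agent.S0819
import Cfsg.Agent.FastGrp
import Cfsg.Agent.Prune
set_option linter.all false
prune_inst 0x7ffdfcf9bbb8effeffff7e7ffef9dffe3996dfffefdffb4bffed7bffafdf23671be5fbaf1de4d8fecef6e2bc10b87853fb7eceffeb6bdc7ffffd5ff45ffbee1ff7ffbd2d71d7bc340f7c6ffffbf27f8e7f3fffffffffffffffffffffffffffffffffffffffff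
open scoped Cfsg.Agent.FastGrp

-- part: H428/SylNorm/Count
section
/-!
# Numbers of Sylow subgroups and normal subgroups (helper428)

* `card_sylow_normal` : a normal subgroup of index prime to `p`;
* `card_sylow_quot` : `n_p(G) = |N : N_N(P)| * n_p(G / N)`;
* `exists_frame` : `P` normalizes a Sylow `t`-subgroup of `N`;
* `locate` : the chief factor containing a Sylow `p`-subgroup of order `p`.
-/

set_option autoImplicit false

namespace Cfsg.Agent.H428.SylNorm

open Subgroup Cfsg.Agent.H363.Frat

universe u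

section

variable {G : Type u} [Group G]

theorem sylow_le_normal {p : ℕ} [hp : Fact p.Prime] (M : Subgroup G) [M.Normal] (h : ¬ p ∣ M.index) (P : Sylow p G) :
    (P : Subgroup G) ≤ M := by
  intro x hx
  obtain ⟨k, hk⟩ := (IsPGroup.iff_orderOf.mp P.2) ⟨x, hx⟩
  have h1 : orderOf (x : G ⧸ M) ∣ p ^ k := by
    rw [← hk, ← Subgroup.orderOf_coe]
    exact orderOf_map_dvd (QuotientGroup.mk' M) x
  have h2 : orderOf (x : G ⧸ M) ∣ M.index := by
    rw [Subgroup.index_eq_card]
    exact _root_.orderOf_dvd_natCard _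
  have h3 : orderOf (x : G ⧸ M) = 1 := by
    apply Nat.eq_one_of_dvd_coprimes _ h1 h2
    exact Nat.Coprime.pow_left _ ((hp.out.coprime_iff_not_dvd).mpr h)
  rw [orderOf_eq_one_iff] at h3
  exact (QuotientGroup.eq_one_iff x).mp h3

variable [Finite G]

/-- a normal subgroup of index prime to `p` has as many Sylow `p`-subgroups as the group -/
theorem card_sylow_normal {p : ℕ} [Fact p.Prime] (M : Subgroup G) [M.Normal] (h : ¬ p ∣ M.index) :
    Nat.card (Sylow p G) = Nat.card (Sylow p M) := by
  refine Nat.card_eq_of_bijective (fun P => P.subtype (sylow_le_normal M h P)) ⟨?_, ?_⟩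
  · intro P Q hPQ
    exact Sylow.subtype_injective hPQ
  · intro Q
    obtain ⟨P, hP⟩ := Sylow.exists_comap_subtype_eq Q
    refine ⟨P, ?_⟩
    apply Sylow.ext
    rw [Sylow.coe_subtype]
    exact hP

theorem relIndex_sup (H N : Subgroup G) [N.Normal] : H.relIndex (H ⊔ N) = H.relIndex N := by
  have e1 := relIndex_inf_mul_relIndex H N (H ⊔ N)
  have e2 := relIndex_inf_mul_relIndex N H (H ⊔ N)
  rw [inf_eq_left.mpr (le_sup_right : N ≤ H ⊔ N), relIndex_sup_right] at e1
  rw [inf_eq_left.mpr (le_sup_left : H ≤ H ⊔ N), inf_comm, ← e1, mul_comm] at e2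
  exact Nat.eq_of_mul_eq_mul_right (Nat.pos_of_ne_zero (Subgroup.index_ne_zero_of_finite (H := N.subgroupOf H))) e2

/-- **Sylow numbers of a quotient** -/
theorem card_sylow_quot {p : ℕ} [Fact p.Prime] (N : Subgroup G) [N.Normal] (P : Sylow p G) :
    Nat.card (Sylow p G) = (normalizer ((P : Subgroup G) : Set G)).relIndex N * Nat.card (Sylow p (G ⧸ N)) := by
  set π := QuotientGroup.mk' N with hπ
  have hs : Function.Surjective π := QuotientGroup.mk'_surjective N
  set P' := P.mapSurjective hs with hP'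
  have hP'c : (P' : Subgroup (G ⧸ N)) = (P : Subgroup G).map π := Sylow.coe_mapSurjective hs P
  set K : Subgroup G := (normalizer ((P' : Subgroup (G ⧸ N)) : Set (G ⧸ N))).comap π with hK
  have hKi : K.index = Nat.card (Sylow p (G ⧸ N)) := by
    rw [hK, Subgroup.index_comap_of_surjective _ hs]
    exact P'.card_eq_index_normalizer.symm
  have hcomap : ((P : Subgroup G).map π).comap π = (P : Subgroup G) ⊔ N := by
    rw [Subgroup.comap_map_eq, hπ, QuotientGroup.ker_mk']
  have hle : normalizer ((P : Subgroup G) : Set G) ≤ K := by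
    intro g hg
    rw [hK, mem_comap, mem_normalizer_iff]
    intro y
    rw [hP'c]
    constructor
    · rintro ⟨x, hx, rfl⟩
      refine ⟨g * x * g⁻¹, (mem_normalizer_iff.mp hg x).mp hx, by simp only [_root_.map_mul, _root_.map_inv]⟩
    · rintro ⟨x, hx, hxy⟩
      refine ⟨g⁻¹ * x * g, ?_, ?_⟩
      · rw [SetLike.mem_coe, mem_normalizer_iff.mp hg]
        have : g * (g⁻¹ * x * g) * g⁻¹ = x := by group
        rw [this]
        exact hx
      · rw [map_mul, map_mul, hxy, map_inv]
        group
  have hK2 : K ≤ normalizer ((P : Subgroup G) : Set G) ⊔ N := by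
    intro g hg
    rw [hK, mem_comap] at hg
    have hPH : (P : Subgroup G) ≤ (P : Subgroup G) ⊔ N := le_sup_left
    have hgP : ((g • P : Sylow p G) : Subgroup G) ≤ (P : Subgroup G) ⊔ N := by
      rw [Sylow.coe_subgroup_smul]
      rintro _ ⟨x, hx, rfl⟩
      rw [← hcomap, mem_comap]
      change π (g * x * g⁻¹) ∈ _
      rw [map_mul, map_mul, map_inv, ← hP'c]
      refine (mem_normalizer_iff.mp hg (π x)).mp ?_
      rw [hP'c]
      exact ⟨x, hx, rfl⟩
    obtain ⟨h, hh⟩ := MulAction.exists_smul_eq ((P : Subgroup G) ⊔ N : Subgroup G) (P.subtype hPH) ((g • P).subtype hgP)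
    rw [Sylow.smul_subtype] at hh
    have h1 := Sylow.subtype_injective hh
    have h2 : (h : G)⁻¹ * g ∈ normalizer ((P : Subgroup G) : Set G) := by
      refine Sylow.smul_eq_iff_mem_normalizer.mp ?_
      rw [mul_smul, ← h1]
      exact inv_smul_smul (h : G) P
    have h3 : (h : G) ∈ normalizer ((P : Subgroup G) : Set G) ⊔ N :=
      (sup_le_sup_right (Subgroup.le_normalizer) N) h.2
    have h4 := mul_mem h3 (mem_sup_left (S := normalizer ((P : Subgroup G) : Set G)) (T := N) h2)
    rwa [mul_inv_cancel_left] at h4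
  have hKeq : K = normalizer ((P : Subgroup G) : Set G) ⊔ N := by
    apply le_antisymm hK2
    apply sup_le hle
    intro x hx
    rw [hK, mem_comap, (QuotientGroup.eq_one_iff x).mpr hx |> fun h => (h : π x = 1)]
    exact one_mem _
  have e : Nat.card (Sylow p G) = (normalizer ((P : Subgroup G) : Set G)).index := P.card_eq_index_normalizer
  rw [e, ← relIndex_mul_index hle, hKi, hKeq, relIndex_sup]

/-- a Sylow `t`-subgroup of `N` in `H`: `t` does not divide `|N : N ∩ H|` -/
theorem not_dvd_relIndex {t : ℕ} (ht : t.Prime) {N S H : Subgroup G} (hSN : S ≤ N)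
    (hc : Nat.card S = t ^ (Nat.card N).factorization t) (hSH : S ≤ H) : ¬ t ∣ H.relIndex N := by
  intro hd
  have h1 : (H ⊓ N).relIndex N * Nat.card (H ⊓ N : Subgroup G) = Nat.card N := by
    have := Subgroup.card_mul_index ((H ⊓ N).subgroupOf N)
    rw [mul_comm, ← this]
    congr 1
    exact Nat.card_congr (Subgroup.subgroupOfEquivOfLe inf_le_right).toEquiv.symm
  rw [inf_relIndex_right] at h1
  have h2 : Nat.card S ∣ Nat.card (H ⊓ N : Subgroup G) := Subgroup.card_dvd_of_le (le_inf hSH hSN)
  rw [hc] at h2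
  have h3 : t ^ ((Nat.card N).factorization t + 1) ∣ Nat.card N := by
    rw [pow_succ']
    exact (Nat.mul_dvd_mul hd h2).trans (dvd_of_eq h1)
  have h4 := (ht.pow_dvd_iff_le_factorization Nat.card_pos.ne').mp h3
  omega

/-- the fixed points of a `p`-group on a `t`-group it normalizes -/
theorem fixed_modEq {p t a : ℕ} [hp : Fact p.Prime] (ht : t.Prime) (htp : t ≠ p) {P S : Subgroup G}
    (hP : IsPGroup p P) (hcard : Nat.card S = t ^ a) (hPS : P ≤ normalizer (S : Set G)) :
    ∃ b, b ≤ a ∧ Nat.card (S ⊓ centralizer (P : Set G) : Subgroup G) = t ^ b ∧ p ∣ t ^ (a - b) - 1 := by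
  have hn : ∀ a : P, ∀ v ∈ S, (a : G) * v * (a : G)⁻¹ ∈ S := fun a v hv =>
    (mem_normalizer_iff.mp (hPS a.2) v).mp hv
  let _act : MulAction P S :=
    { smul := fun a y => ⟨(a : G) * y.1 * (a : G)⁻¹, hn a _ y.2⟩
      one_smul := fun y => by
        apply Subtype.ext
        change ((1 : P) : G) * y.1 * ((1 : P) : G)⁻¹ = y.1
        simp
      mul_smul := fun a b y => by
        apply Subtype.ext
        change ((a * b : P) : G) * y.1 * ((a * b : P) : G)⁻¹
          = (a : G) * ((b : G) * y.1 * (b : G)⁻¹) * (a : G)⁻¹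
        rw [Subgroup.coe_mul]; group }
  have h1 := hP.card_modEq_card_fixedPoints S
  have h2 : Nat.card (MulAction.fixedPoints P S) = Nat.card (S ⊓ centralizer (P : Set G) : Subgroup G) := by
    apply Nat.card_congr
    refine ⟨fun y => ⟨y.1.1, mem_inf.mpr ⟨y.1.2, ?_⟩⟩, fun y => ⟨⟨y.1, (mem_inf.mp y.2).1⟩, ?_⟩, fun _ => rfl,
      fun _ => rfl⟩
    · rw [mem_centralizer_iff]
      intro x hx
      have h3 := congrArg Subtype.val (y.2 ⟨x, hx⟩)
      change (x : G) * y.1.1 * (x : G)⁻¹ = y.1.1 at h3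
      calc (x : G) * y.1.1 = ((x : G) * y.1.1 * (x : G)⁻¹) * x := by group
        _ = y.1.1 * x := by rw [h3]
    · rintro ⟨x, hx⟩
      apply Subtype.ext
      change x * y.1 * x⁻¹ = y.1
      have h3 : x * y.1 = y.1 * x := mem_centralizer_iff.mp (mem_inf.mp y.2).2 _ hx
      rw [h3]
      group
  rw [h2, hcard] at h1
  have hFS : Nat.card (S ⊓ centralizer (P : Set G) : Subgroup G) ∣ t ^ a := by
    rw [← hcard]
    exact Subgroup.card_dvd_of_le inf_le_left
  obtain ⟨b, hb, hFb⟩ := (Nat.dvd_prime_pow ht).mp hFS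
  refine ⟨b, hb, hFb, ?_⟩
  rw [hFb] at h1
  have h3 : p ∣ t ^ a - t ^ b := (Nat.modEq_iff_dvd' (Nat.pow_le_pow_right ht.pos hb)).mp h1.symm
  have h4 : t ^ a - t ^ b = t ^ b * (t ^ (a - b) - 1) := by
    rw [Nat.mul_sub, mul_one, ← pow_add, Nat.add_sub_cancel' hb]
  rw [h4] at h3
  rcases hp.out.dvd_mul.mp h3 with h5 | h5
  · exact absurd ((Nat.prime_dvd_prime_iff_eq hp.out ht).mp (hp.out.dvd_of_dvd_pow h5)).symm htp
  · exact h5

/-- **The frame**: a Sylow `p`-subgroup of order `p` normalizing a Sylow `t`-subgroup of `N` -/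
theorem exists_frame {p t : ℕ} [hp : Fact p.Prime] (ht : t.Prime) (htp : t ≠ p)
    (h1 : (Nat.card G).factorization p = 1) (N : Subgroup G) [N.Normal] (hpN : p ∣ N.index) :
    ∃ (P : Sylow p G) (S : Subgroup G), S ≤ N ∧ Nat.card S = t ^ (Nat.card N).factorization t ∧
      normalizer (S : Set G) ⊔ N = ⊤ ∧ (P : Subgroup G) ≤ normalizer (S : Set G) := by
  have : Fact t.Prime := ⟨ht⟩
  let R : Sylow t N := default
  have hSN : (R : Subgroup N).map N.subtype ≤ N := by
    rintro _ ⟨x, _, rfl⟩
    exact x.2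
  have hcard : Nat.card ((R : Subgroup N).map N.subtype) = t ^ (Nat.card N).factorization t := by
    rw [Nat.card_congr ((R : Subgroup N).equivMapOfInjective N.subtype
      N.subtype_injective).symm.toEquiv]
    exact R.card_eq_multiplicity
  have hfrat : normalizer (((R : Subgroup N).map N.subtype : Subgroup G) : Set G) ⊔ N = ⊤ :=
    Sylow.normalizer_sup_eq_top R
  have h2 : N.relIndex (normalizer (((R : Subgroup N).map N.subtype : Subgroup G) : Set G)) = N.index := by
    rw [← relIndex_sup_right, hfrat, relIndex_top_right]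
  have h3 := relIndex_dvd_card N (normalizer (((R : Subgroup N).map N.subtype : Subgroup G) : Set G))
  rw [h2] at h3
  obtain ⟨x, hx⟩ := exists_prime_orderOf_dvd_card' p (hpN.trans h3)
  have hx' : orderOf (x : G) = p := by rw [Subgroup.orderOf_coe, hx]
  have hc : Nat.card (zpowers (x : G)) = p ^ (Nat.card G).factorization p := by
    rw [h1, pow_one, Nat.card_zpowers, hx']
  refine ⟨Sylow.ofCard (zpowers (x : G)) hc, _, hSN, hcard, hfrat, ?_⟩
  rw [Sylow.coe_ofCard, zpowers_le]
  exact x.2

/-- the Sylow numbers have the same `t`-part if no nontrivial action on a Sylow `t`-subgroup is possible -/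
theorem factorization_sylow_eq_of {p t : ℕ} [hp : Fact p.Prime] (ht : t.Prime) (N : Subgroup G) [N.Normal]
    (P : Sylow p G) {S : Subgroup G} (hSN : S ≤ N) (hS : Nat.card S = t ^ (Nat.card N).factorization t)
    (hSP : S ≤ centralizer ((P : Subgroup G) : Set G)) :
    (Nat.card (Sylow p G)).factorization t = (Nat.card (Sylow p (G ⧸ N))).factorization t := by
  rw [card_sylow_quot N P, Nat.factorization_mul ?_ Nat.card_pos.ne', Finsupp.add_apply,
    Nat.factorization_eq_zero_of_not_dvd (not_dvd_relIndex ht hSN hS (hSP.trans (centralizer_le_normalizer _))), zero_add]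
  exact Subgroup.index_ne_zero_of_finite

theorem factorization_sylow_eq {p t : ℕ} [hp : Fact p.Prime] (ht : t.Prime) (htp : t ≠ p)
    (h1 : (Nat.card G).factorization p = 1) (N : Subgroup G) [N.Normal] (hpN : p ∣ N.index)
    (hno : ∀ c, 1 ≤ c → c ≤ (Nat.card N).factorization t → ¬ p ∣ t ^ c - 1) :
    (Nat.card (Sylow p G)).factorization t = (Nat.card (Sylow p (G ⧸ N))).factorization t := by
  obtain ⟨P, S, hSN, hS, -, hPS⟩ := exists_frame ht htp h1 N hpN
  obtain ⟨b, hb, hc, hd⟩ := fixed_modEq ht htp P.2 hS hPS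
  have hb' : b = (Nat.card N).factorization t := by
    by_contra hne
    exact hno _ (by omega) (by omega) hd
  refine factorization_sylow_eq_of ht N P hSN hS ?_
  have h2 : S ⊓ centralizer ((P : Subgroup G) : Set G) = S := by
    apply Subgroup.eq_of_le_of_card_ge inf_le_left
    rw [hc, hS, hb']
  rw [← h2]
  exact inf_le_right

/-- **The chief factor containing a Sylow `p`-subgroup of order `p`** -/
theorem locate {p : ℕ} (hp : p.Prime) (h1 : (Nat.card G).factorization p = 1) :
    ∃ (N : Subgroup G) (_ : N.Normal) (M : Subgroup (G ⧸ N)), M.Normal ∧ IsSimpleGroup M ∧ p ∣ Nat.card M ∧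
      ¬ p ∣ Nat.card N ∧ ((¬ ∀ a b : M, a * b = b * a) → centralizer (M : Set (G ⧸ N)) = ⊥) := by
  have hpG : p ∣ Nat.card G := by
    rw [hp.dvd_iff_one_le_factorization Nat.card_pos.ne', h1]
  obtain ⟨N, ⟨hNn, hNp⟩, hNmax⟩ : ∃ N : Subgroup G, (N.Normal ∧ ¬ p ∣ Nat.card N) ∧
      ∀ L : Subgroup G, (L.Normal ∧ ¬ p ∣ Nat.card L) → N ≤ L → L = N := by
    have hfin : {L : Subgroup G | L.Normal ∧ ¬ p ∣ Nat.card L}.Finite := Set.toFinite _
    obtain ⟨N, hN⟩ := hfin.exists_maximal ⟨⊥, Subgroup.normal_bot, by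
      rw [Subgroup.card_bot]; exact fun h => hp.one_lt.ne' (Nat.dvd_one.mp h)⟩
    exact ⟨N, hN.1, fun L hL hNL => le_antisymm (hN.2 hL hNL) hNL⟩
  have hpidx : p ∣ N.index := by
    have h1 := N.card_mul_index
    rw [← h1] at hpG
    rcases hp.dvd_mul.mp hpG with h | h
    · exact absurd h hNp
    · exact h
  have card_eq : ∀ M : Subgroup (G ⧸ N), Nat.card G = Nat.card N * (Nat.card M * M.index) := by
    intro M
    rw [M.card_mul_index, ← Subgroup.index_eq_card, N.card_mul_index]
  have hquot : ∀ M : Subgroup (G ⧸ N), M.Normal → M ≠ ⊥ → p ∣ Nat.card M := by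
    intro M hMn hM0
    have hHn : (M.comap (QuotientGroup.mk' N)).Normal := hMn.comap _
    have hNH : N ≤ M.comap (QuotientGroup.mk' N) := by
      intro x hx
      rw [mem_comap]
      have : QuotientGroup.mk' N x = 1 := (QuotientGroup.eq_one_iff x).mpr hx
      rw [this]
      exact one_mem _
    have hHN : M.comap (QuotientGroup.mk' N) ≠ N := by
      intro h
      apply hM0
      rw [eq_bot_iff]
      intro y hy
      obtain ⟨x, rfl⟩ := QuotientGroup.mk'_surjective N y
      have : x ∈ M.comap (QuotientGroup.mk' N) := hy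
      rw [h] at this
      exact Subgroup.mem_bot.mpr ((QuotientGroup.eq_one_iff x).mpr this)
    have hpH : p ∣ Nat.card (M.comap (QuotientGroup.mk' N)) := by
      by_contra h
      exact hHN (hNmax _ ⟨hHn, h⟩ hNH)
    have h1 : Nat.card (M.comap (QuotientGroup.mk' N)) = Nat.card N * Nat.card M := by
      have h2 := (M.comap (QuotientGroup.mk' N)).card_mul_index
      have h3 : (M.comap (QuotientGroup.mk' N)).index = M.index :=
        M.index_comap_of_surjective (QuotientGroup.mk'_surjective N)
      rw [h3, card_eq M, ← mul_assoc] at h2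
      exact Nat.eq_of_mul_eq_mul_right (Nat.pos_of_ne_zero M.index_ne_zero_of_finite) h2
    rw [h1] at hpH
    rcases hp.dvd_mul.mp hpH with h | h
    · exact absurd h hNp
    · exact h
  obtain ⟨M, hMn, hM0, hMmin⟩ : ∃ M : Subgroup (G ⧸ N), M.Normal ∧ M ≠ ⊥ ∧
      ∀ L : Subgroup (G ⧸ N), L.Normal → L ≤ M → L = ⊥ ∨ L = M := by
    have hfin : {L : Subgroup (G ⧸ N) | L.Normal ∧ L ≠ ⊥}.Finite := Set.toFinite _
    obtain ⟨M, hM⟩ := hfin.exists_minimal ⟨⊤, Subgroup.normal_top, by
      intro h
      have h2 : Nat.card (G ⧸ N) = 1 := by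
        have := Subgroup.card_top (G := G ⧸ N)
        rw [h, Subgroup.card_bot] at this
        exact this.symm
      rw [← Subgroup.index_eq_card] at h2
      rw [h2] at hpidx
      exact hp.one_lt.ne' (Nat.dvd_one.mp hpidx)⟩
    refine ⟨M, hM.1.1, hM.1.2, fun L hL hLM => ?_⟩
    by_cases h : L = ⊥
    · exact Or.inl h
    · exact Or.inr (le_antisymm hLM (hM.2 ⟨hL, h⟩ hLM))
  have hpM : p ∣ Nat.card M := hquot M hMn hM0
  have hMG : Nat.card M * M.index ∣ Nat.card G := by
    rw [card_eq M]
    exact Nat.dvd_mul_left _ _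
  have hp2 : ¬ p ^ 2 ∣ Nat.card G := by
    intro h3
    have h4 := (hp.pow_dvd_iff_le_factorization Nat.card_pos.ne').mp h3
    omega
  have hp2M : ¬ p ^ 2 ∣ Nat.card M := fun h =>
    hp2 ((h.trans (Nat.dvd_mul_right _ _)).trans hMG)
  have hsimple : IsSimpleGroup M := isSimple_of_minimal M hMmin hp hpM hp2M
  refine ⟨N, hNn, M, hMn, hsimple, hpM, hNp, fun hnonab => ?_⟩
  by_contra hC
  have hCn : (centralizer (M : Set (G ⧸ N))).Normal := Subgroup.normal_centralizer
  have hpC := hquot _ hCn hC
  have hdisj : Disjoint (centralizer (M : Set (G ⧸ N))) M := by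
    rw [disjoint_iff]
    rcases hMmin (centralizer (M : Set (G ⧸ N)) ⊓ M) inferInstance inf_le_right with h1 | h1
    · exact h1
    · exfalso
      apply hnonab
      intro a b
      have hb : (b : G ⧸ N) ∈ centralizer (M : Set (G ⧸ N)) ⊓ M := by
        rw [h1]
        exact b.2
      apply Subtype.ext
      exact (mem_centralizer_iff.mp (mem_inf.mp hb).1 a a.2)
  have h5 : Nat.card (centralizer (M : Set (G ⧸ N))) * Nat.card M ∣ Nat.card (G ⧸ N) := by
    have h6 : Nat.card (centralizer (M : Set (G ⧸ N))) ∣ Nat.card ((G ⧸ N) ⧸ M) := by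
      apply Subgroup.card_dvd_of_injective
        ((QuotientGroup.mk' M).comp (centralizer (M : Set (G ⧸ N))).subtype)
      rw [injective_iff_map_eq_one]
      intro x hx
      have h7 : (x : G ⧸ N) ∈ M := (QuotientGroup.eq_one_iff (x : G ⧸ N)).mp hx
      have h8 : (x : G ⧸ N) ∈ centralizer (M : Set (G ⧸ N)) ⊓ M := mem_inf.mpr ⟨x.2, h7⟩
      rw [disjoint_iff.mp hdisj] at h8
      exact Subtype.ext (mem_bot.mp h8)
    rw [← Subgroup.index_eq_card] at h6
    rw [← M.index_mul_card]
    exact Nat.mul_dvd_mul_right h6 _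
  have h6 : p ^ 2 ∣ Nat.card G := by
    rw [pow_two, ← N.card_mul_index, Subgroup.index_eq_card]
    exact ((Nat.mul_dvd_mul hpC hpM).trans h5).mul_left _
  exact hp2 h6

end

end Cfsg.Agent.H428.SylNorm
end

-- part: H428/SylNorm/Act
section
/-!
# Alternating sections act trivially on small `t`-groups (helper428)

`exists_centralizing_alt` : `N_G(S) N = G`, `M ≤ G / N` isomorphic to `A_m`, `m ≥ 9`, `|S| = t ^ a` with `a + 2 < m`:
for each prime `p ≤ m` there is an element of order `p` centralizing `S` (by the Feit-Tits theorem).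
-/

set_option autoImplicit false

namespace Cfsg.Agent.H428.SylNorm

open Subgroup

universe u v

/-- a homomorphism of a perfect group with commuting values is trivial -/
theorem hom_trivial {H : Type v} [Group H] (hH : commutator H = ⊤) {A : Type u} [Group A]
    (hA : ∀ a b : A, a * b = b * a) (f : H →* A) (h : H) : f h = 1 := by
  let _ : CommGroup A := { (inferInstance : Group A) with mul_comm := hA }
  have h4 : commutator H ≤ f.ker := Abelianization.commutator_subset_ker f
  rw [hH] at h4
  exact MonoidHom.mem_ker.mp (h4 (mem_top h))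

/-- a perfect group acting trivially on a central subgroup and on the quotient acts trivially -/
theorem act_trivial_of {H : Type v} [Group H] (hH : commutator H = ⊤) {S : Type u} [Group S] (φ : H →* MulAut S)
    (Ω : Subgroup S) (hc : Ω ≤ center S) (h1 : ∀ h, ∀ z ∈ Ω, φ h z = z) (h2 : ∀ h s, s⁻¹ * φ h s ∈ Ω) :
    ∀ h s, φ h s = s := by
  intro h s
  let f : H →* Ω :=
    { toFun := fun h => ⟨s⁻¹ * φ h s, h2 h s⟩
      map_one' := by
        apply Subtype.ext
        simp only [_root_.map_one, _root_.MulAut.one_apply, _root_.inv_mul_cancel, _root_.OneMemClass.coe_one]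
      map_mul' := fun g h => by
        apply Subtype.ext
        have e1 : φ (g * h) s = φ g (φ h s) := by rw [map_mul]; rfl
        have e2 : φ g (s⁻¹ * φ h s) = s⁻¹ * φ h s := h1 g _ (h2 h s)
        have e3 : φ g (φ h s) = φ g s * (s⁻¹ * φ h s) := by
          rw [← e2, ← map_mul, mul_inv_cancel_left]
        change s⁻¹ * φ (g * h) s = s⁻¹ * φ g s * (s⁻¹ * φ h s)
        rw [e1, e3, mul_assoc] }
  have h3 : f h = 1 := hom_trivial hH (fun a b => Subtype.ext (mem_center_iff.mp (hc b.2) a)) f h
  have h5 := congrArg Subtype.val h3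
  change s⁻¹ * φ h s = 1 at h5
  exact (inv_mul_eq_one.mp h5).symm

/-- a perfect group without nontrivial representations of degree at most `a` over `𝔽_t` acts trivially on groups of
order at most `t ^ a` -/
theorem act_trivial {H : Type v} [Group H] (hH : commutator H = ⊤) {t : ℕ} [ht : Fact t.Prime] {a : ℕ}
    (hrep : ∀ d, d ≤ a → ∀ θ : H →* Matrix (Fin d) (Fin d) (ZMod t), ∀ h, θ h = 1) :
    ∀ (k : ℕ), k ≤ a → ∀ (S : Type u) [Group S] [Finite S] (φ : H →* MulAut S), Nat.card S = t ^ k →
      ∀ h s, φ h s = s := by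
  intro k
  induction k using Nat.strong_induction_on with
  | _ k ih =>
    intro hk S _ _ φ hcard
    rcases Nat.eq_zero_or_pos k with rfl | hk0
    · intro h s
      rw [pow_zero] at hcard
      have := (Nat.card_eq_one_iff_unique.mp hcard).1
      exact Subsingleton.elim _ _
    have hS : IsPGroup t S := IsPGroup.of_card hcard
    have hnt : Nontrivial S := by
      rw [← Finite.one_lt_card_iff_nontrivial, hcard]
      exact Nat.one_lt_pow hk0.ne' ht.out.one_lt
    have hZ : Nontrivial (center S) := hS.center_nontrivial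
    -- the subgroup of the center
    let Ω : Subgroup S :=
      { carrier := {z | z ∈ center S ∧ z ^ t = 1}
        mul_mem' := fun {a b} ha hb => ⟨mul_mem ha.1 hb.1, by
          have h1 : Commute a b := mem_center_iff.mp hb.1 a
          rw [h1.mul_pow, ha.2, hb.2, mul_one]⟩
        one_mem' := ⟨one_mem _, one_pow t⟩
        inv_mem' := fun {a} ha => ⟨inv_mem ha.1, by rw [inv_pow, ha.2, inv_one]⟩ }
    have hΩ : ∀ z : S, z ∈ Ω ↔ z ∈ center S ∧ z ^ t = 1 := fun z => Iff.rfl
    have hΩc : Ω ≤ center S := fun z hz => hz.1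
    have hcen : ∀ (ψ : MulAut S) (z : S), z ∈ center S → ψ z ∈ center S := by
      intro ψ z hz
      rw [mem_center_iff] at hz ⊢
      intro s
      obtain ⟨s, rfl⟩ := ψ.surjective s
      rw [← map_mul, hz, map_mul]
    have hinv : ∀ (ψ : MulAut S) (z : S), z ∈ Ω → ψ z ∈ Ω := by
      intro ψ z hz
      rw [hΩ] at hz ⊢
      refine ⟨hcen ψ z hz.1, ?_⟩
      rw [← map_pow, hz.2, map_one]
    have hΩne : Ω ≠ ⊥ := by
      intro h0
      obtain ⟨z, hz⟩ := exists_prime_orderOf_dvd_card' (G := center S) t (by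
        have h1 : IsPGroup t (center S) := hS.to_subgroup _
        obtain ⟨n, hn⟩ := IsPGroup.iff_card.mp h1
        have h2 : n ≠ 0 := by
          rintro rfl
          have := Finite.one_lt_card (α := center S)
          rw [hn] at this
          simp at this
        rw [hn]
        exact dvd_pow_self t h2)
      have h1 : (z : S) ∈ Ω := ⟨z.2, by
        have h3 : (z : center S) ^ t = 1 := by rw [← hz]; exact pow_orderOf_eq_one z
        exact congrArg Subtype.val h3⟩
      rw [h0, mem_bot] at h1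
      have h2 : z = 1 := Subtype.ext h1
      rw [h2, orderOf_one] at hz
      exact ht.out.one_lt.ne hz
    have hΩn : Ω.Normal := ⟨fun z hz g => by
      have : g * z * g⁻¹ = z := by
        rw [mem_center_iff.mp (hΩc hz) g]
        group
      rwa [this]⟩
    let _ : CommGroup Ω := { (inferInstance : Group Ω) with
      mul_comm := fun a b => Subtype.ext (mem_center_iff.mp (hΩc b.2) a) }
    -- the action on `Ω`
    let β : H →* AddMonoid.End (Additive Ω) :=
      { toFun := fun h =>
          { toFun := fun x => Additive.ofMul ⟨φ h (Additive.toMul x : Ω), hinv _ _ (Additive.toMul x : Ω).2⟩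
            map_zero' := by
              apply Additive.toMul.injective
              apply Subtype.ext
              exact map_one (φ h)
            map_add' := fun x y => by
              apply Additive.toMul.injective
              apply Subtype.ext
              exact map_mul (φ h) _ _ }
        map_one' := by
          apply AddMonoidHom.ext
          intro x
          apply Additive.toMul.injective
          apply Subtype.ext
          change φ 1 _ = _
          rw [map_one]
          rfl
        map_mul' := fun g h => by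
          apply AddMonoidHom.ext
          intro x
          apply Additive.toMul.injective
          apply Subtype.ext
          change φ (g * h) _ = φ g (φ h _)
          rw [map_mul]
          rfl }
    obtain ⟨m, θ, hm, hθ⟩ := Cfsg.Agent.H189.FeitTits.exists_mod (E := Additive Ω) t (by
      intro x
      apply Additive.toMul.injective
      exact Subtype.ext ((Additive.toMul x : Ω).2).2) β
    have hcΩ : Nat.card Ω = t ^ m := hm.symm
    have hmk : m ≤ k := by
      have h1 : Nat.card Ω ∣ Nat.card S := Subgroup.card_subgroup_dvd_card Ω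
      rw [hcΩ, hcard] at h1
      exact (Nat.pow_dvd_pow_iff_le_right ht.out.one_lt).mp h1
    have hm0 : m ≠ 0 := by
      rintro rfl
      rw [pow_zero] at hcΩ
      exact hΩne (Subgroup.card_eq_one.mp hcΩ)
    have h1 : ∀ h, ∀ z ∈ Ω, φ h z = z := by
      intro h z hz
      have h2 := hθ h (hrep m (by omega) θ h) (Additive.ofMul ⟨z, hz⟩)
      exact congrArg (fun x : Additive Ω => ((Additive.toMul x : Ω) : S)) h2
    -- the action on the quotient
    have hmap : ∀ h, Ω.map (φ h : S ≃* S).toMonoidHom = Ω := by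
      intro h
      apply Subgroup.eq_of_le_of_card_ge
      · rintro _ ⟨z, hz, rfl⟩
        exact hinv (φ h) z hz
      · exact (Nat.card_congr (Ω.equivMapOfInjective _ (φ h).injective).toEquiv).le
    let ψ : H →* MulAut (S ⧸ Ω) :=
      { toFun := fun h => QuotientGroup.congr Ω Ω (φ h) (hmap h)
        map_one' := by
          ext x
          obtain ⟨x, rfl⟩ := QuotientGroup.mk'_surjective Ω x
          change ((φ 1 x : S) : S ⧸ Ω) = (x : S ⧸ Ω)
          rw [map_one]
          rfl
        map_mul' := fun g h => by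
          ext x
          obtain ⟨x, rfl⟩ := QuotientGroup.mk'_surjective Ω x
          change ((φ (g * h) x : S) : S ⧸ Ω) = ((φ g (φ h x) : S) : S ⧸ Ω)
          rw [map_mul]
          rfl }
    have hcq : Nat.card (S ⧸ Ω) = t ^ (k - m) := by
      have h3 := Subgroup.card_eq_card_quotient_mul_card_subgroup Ω
      rw [hcΩ, hcard, ← Nat.sub_add_cancel hmk, pow_add] at h3
      exact (Nat.eq_of_mul_eq_mul_right (pow_pos ht.out.pos m) h3).symm
    have h3 := ih (k - m) (by omega) (by omega) (S ⧸ Ω) ψ hcq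
    refine act_trivial_of hH φ Ω hΩc h1 fun h s => ?_
    have h4 := h3 h (s : S ⧸ Ω)
    change ((φ h s : S) : S ⧸ Ω) = (s : S ⧸ Ω) at h4
    exact QuotientGroup.eq.mp h4.symm

/-- a group with a minimal surjection onto `A_m` has no nontrivial representation of degree less than `m - 2` -/
theorem rep_trivial {H : Type v} [Group H] [Finite H] {m : ℕ} (hm : 9 ≤ m) {π : H →* alternatingGroup (Fin m)}
    (h : Cfsg.Agent.H189.MinCov.IsMin π) {t : ℕ} [ht : Fact t.Prime] {d : ℕ} (hd : d + 2 < m)
    (θ : H →* Matrix (Fin d) (Fin d) (ZMod t)) : ∀ h, θ h = 1 := by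
  have hs := Cfsg.Agent.H189.FeitTits.alt_simple hm
  let L : Matrix (Fin d) (Fin d) (ZMod t) →* Module.End (ZMod t) (Fin d → ZMod t) :=
    (Matrix.toLinAlgEquiv' : Matrix (Fin d) (Fin d) (ZMod t) ≃ₐ[ZMod t] _).toAlgHom.toRingHom.toMonoidHom
  have hL : Function.Injective L := (Matrix.toLinAlgEquiv' : Matrix (Fin d) (Fin d) (ZMod t) ≃ₐ[ZMod t] _).injective
  rcases h.normal θ.ker with h1 | h1
  · intro x
    exact MonoidHom.mem_ker.mp (h1 ▸ mem_top x)
  · exfalso
    have h2 := Cfsg.Agent.H189.FeitTits.feit_tits (k := ZMod t) t hm π h.1 (L.comp θ) (by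
      intro g hg
      apply MonoidHom.mem_ker.mp
      apply h1
      rw [MonoidHom.mem_ker]
      apply hL
      rw [map_one]
      exact hg)
    rw [Module.finrank_fin_fun] at h2
    split_ifs at h2 <;> omega

theorem exists_centralizing_alt {G : Type u} [Group G] [Finite G] {m : ℕ} (hm : 9 ≤ m) {N : Subgroup G} [N.Normal]
    {M : Subgroup (G ⧸ N)} (e : M ≃* alternatingGroup (Fin m)) {t a : ℕ} (ht : t.Prime) {S : Subgroup G}
    (hS : Nat.card S = t ^ a) (hfr : normalizer (S : Set G) ⊔ N = ⊤) (ha : a + 2 < m) {p : ℕ} (hp : p.Prime)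
    (hpm : p ≤ m) : ∃ x ∈ centralizer (S : Set G), orderOf x = p := by
  have : Fact t.Prime := ⟨ht⟩
  have : Fact p.Prime := ⟨hp⟩
  have hsimple := Cfsg.Agent.H189.FeitTits.alt_simple hm
  let X : Subgroup G := normalizer (S : Set G)
  let Y : Subgroup X := M.comap ((QuotientGroup.mk' N).comp X.subtype)
  let π : Y →* alternatingGroup (Fin m) := e.toMonoidHom.comp
    ((((QuotientGroup.mk' N).comp X.subtype).comp Y.subtype).codRestrict M (fun y => y.2))
  have hπ : Function.Surjective π := by
    intro b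
    obtain ⟨z, hz⟩ := e.surjective b
    obtain ⟨g, hg⟩ := QuotientGroup.mk'_surjective N (z : G ⧸ N)
    have h1 : g ∈ X ⊔ N := by
      change g ∈ normalizer (S : Set G) ⊔ N
      rw [hfr]
      exact mem_top g
    obtain ⟨x, hx, y, hy, rfl⟩ := Subgroup.mem_sup_of_normal_right.mp h1
    have h2 : QuotientGroup.mk' N x = z := by
      rw [← hg, map_mul, (QuotientGroup.eq_one_iff y).mpr hy |> fun h => (h : QuotientGroup.mk' N y = 1), mul_one]
    refine ⟨⟨⟨x, hx⟩, ?_⟩, ?_⟩
    · change QuotientGroup.mk' N x ∈ M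
      rw [h2]
      exact z.2
    · rw [← hz]
      change e _ = e z
      congr 1
      exact Subtype.ext h2
  obtain ⟨H, hH⟩ := Cfsg.Agent.H189.MinCov.exists_min π hπ
  have hperf := hH.perfect (Cfsg.Agent.H189.FeitTits.alt_nonab hm)
  let φ : H →* MulAut S := (S.normalizerMonoidHom.comp Y.subtype).comp H.subtype
  have hφ : ∀ h s, φ h s = s := act_trivial hperf (t := t) (a := a)
    (fun d hd θ => rep_trivial hm hH (by omega) θ) a le_rfl S φ hS
  have hpc : p ∣ Nat.card H := by
    have h1 : Nat.card (alternatingGroup (Fin m)) ∣ Nat.card H := Subgroup.card_dvd_of_surjective _ hH.1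
    refine dvd_trans ?_ h1
    have h2 := Cfsg.Agent.H363.AltPrimes.card_alternating (n := m) (by omega)
    have h3 : 2 * p ∣ m.factorial := by
      rcases Nat.eq_or_lt_of_le hp.two_le with h4 | h4
      · rw [← h4]
        exact (show 2 * 2 ∣ Nat.factorial 4 by decide).trans (Nat.factorial_dvd_factorial (by omega))
      · exact Nat.Coprime.mul_dvd_of_dvd_of_dvd ((Nat.coprime_primes Nat.prime_two hp).mpr (by omega))
          (Nat.dvd_factorial (by norm_num) (by omega)) (Nat.dvd_factorial (by omega) hpm)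
    rw [← h2] at h3
    exact Nat.dvd_of_mul_dvd_mul_left (by norm_num) h3
  obtain ⟨x, hx⟩ := exists_prime_orderOf_dvd_card' p hpc
  refine ⟨(((x : H) : Y) : X), ?_, ?_⟩
  · rw [mem_centralizer_iff]
    intro s hs
    have h1 := congrArg Subtype.val (hφ x ⟨s, hs⟩)
    change (((x : Y) : X) : G) * s * (((x : Y) : X) : G)⁻¹ = s at h1
    rw [mul_inv_eq_iff_eq_mul] at h1
    exact h1.symm
  · rw [Subgroup.orderOf_coe, Subgroup.orderOf_coe, Subgroup.orderOf_coe, hx]

end Cfsg.Agent.H428.SylNorm
end

-- part: H428/SylNorm/Alt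
section
/-!
# Sylow normalizers of `A_n` and large primes (helper428)

`p` prime, `n / 2 < p ≤ n`, `p ≥ 5`:

* `card_sylow_alt` : the number of Sylow `p`-subgroups of `A_n`;
* `not_dvd_normalizer` : `p` does not divide the order of the normalizer of a Sylow `s`-subgroup, `s ≠ p`.
-/

set_option autoImplicit false

namespace Cfsg.Agent.H428.SylNorm.Alt

open Equiv Equiv.Perm Subgroup Cfsg.Agent.H363.Frat Cfsg.Agent.H363.AltPrimes

/-- the cycle type of elements of order `p` -/
theorem orderOf_eq_iff {n p : ℕ} (hp : p.Prime) (hnp : n < 2 * p) (σ : Perm (Fin n)) :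
    orderOf σ = p ↔ σ.cycleType = {p} := by
  constructor
  · intro h
    have h1 : σ.IsCycle := isCycle_of_prime_order' (by rw [h]; exact hp) (by rw [h, Fintype.card_fin]; exact hnp)
    rw [h1.cycleType, ← h1.orderOf, h]
  · intro h
    rw [← lcm_cycleType, h]
    simp

/-- **the number of Sylow `p`-subgroups of `A_n`** -/
theorem card_sylow_alt {n p : ℕ} [hp : Fact p.Prime] (hp2 : p ≠ 2) (hpn : p ≤ n) (hnp : n < 2 * p) :
    Nat.card (Sylow p (alternatingGroup (Fin n))) * (p * (p - 1) * (n - p).factorial) = n.factorial := by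
  have hn2 : 2 ≤ n := hp.out.two_le.trans hpn
  have hP : ∀ P : Sylow p (alternatingGroup (Fin n)), Nat.card (P : Subgroup (alternatingGroup (Fin n))) = p := by
    intro P
    rw [P.card_eq_multiplicity, factorization_alternating hn2 hp.out hp2 hpn hnp, pow_one]
  have h1 := Ly.McL.Simple.card_orderOf_prime hP
  have h2 : Nat.card {x : alternatingGroup (Fin n) // orderOf x = p} =
      Nat.card {g : Perm (Fin n) // g.cycleType = {p}} := by
    apply Nat.card_congr
    refine ⟨fun x => ⟨x.1, ?_⟩, fun x => ⟨⟨x.1, ?_⟩, ?_⟩, fun _ => rfl, fun _ => rfl⟩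
    · rw [← orderOf_eq_iff hp.out hnp, Subgroup.orderOf_coe]
      exact x.2
    · rw [mem_alternatingGroup, sign_of_cycleType, x.2]
      obtain ⟨k, hk⟩ := hp.out.odd_of_ne_two hp2
      simp only [Multiset.sum_singleton, Multiset.card_singleton]
      rw [hk, show 2 * k + 1 + 1 = 2 * (k + 1) by ring, pow_mul]
      simp only [_root_.even_two, _root_.Even.neg_pow, _root_.one_pow]
    · rw [← Subgroup.orderOf_coe]
      exact (orderOf_eq_iff hp.out hnp _).2 x.2
  have h3 := card_of_cycleType_mul_eq (Fin n) {p}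
  rw [if_pos (by simpa only [_root_.Multiset.sum_singleton, _root_.Fintype.card_fin, _root_.Multiset.mem_singleton, _root_.forall_eq] using ⟨hpn, hp.out.two_le⟩)] at h3
  simp only [Multiset.sum_singleton, Multiset.prod_singleton, Multiset.toFinset_singleton, Finset.prod_singleton,
    Multiset.count_singleton_self, Nat.factorial_one, mul_one, Fintype.card_fin] at h3
  have h4 : Nat.card {g : Perm (Fin n) // g.cycleType = {p}} =
      Finset.card ({g | g.cycleType = {p}} : Finset (Perm (Fin n))) := by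
    rw [Nat.card_eq_fintype_card, Fintype.card_subtype]
  rw [← h3, ← h4, ← h2, h1]
  ring

/-! ### The normalizer of a Sylow `s`-subgroup -/

variable {n : ℕ}

/-- a group of permutations fixing the points of `F` -/
theorem card_dvd_of_fix {Q : Subgroup (Perm (Fin n))} {F : Finset (Fin n)} (h : ∀ q ∈ Q, ∀ y ∈ F, q y = y) :
    Nat.card Q ∣ (n - F.card).factorial := by
  classical
  have h1 : Q ≤ (ofSubtype : Perm {x // x ∉ F} →* Perm (Fin n)).range := by
    intro q hq
    rw [MonoidHom.mem_range]
    refine (mem_range_ofSubtype_iff (p := fun x => x ∉ F) (g := q)).2 ?_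
    intro x hx hxF
    rw [Finset.mem_coe, mem_support] at hx
    exact hx (h q hq x hxF)
  have h2 : Nat.card (ofSubtype : Perm {x // x ∉ F} →* Perm (Fin n)).range = (n - F.card).factorial := by
    rw [← Nat.card_congr (MonoidHom.ofInjective (ofSubtype_injective (p := fun x => x ∉ F))).toEquiv, Nat.card_perm]
    congr 1
    rw [Nat.card_eq_fintype_card, Fintype.card_subtype_compl, Fintype.card_fin, Fintype.card_coe]
  rw [← h2]
  exact Subgroup.card_dvd_of_le h1

theorem inv_app (u : Perm (Fin n)) (x : Fin n) : u⁻¹ (u x) = x := u.symm_apply_apply x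

/-- the elements of the normalizer of `H` which fix the `H`-orbit of `x` -/
def T (H : Subgroup (Perm (Fin n))) (x : Fin n) : Subgroup (Perm (Fin n)) where
  carrier := {u | u ∈ normalizer (H : Set (Perm (Fin n))) ∧ ∃ h ∈ H, u x = h x}
  mul_mem' := by
    rintro u v ⟨hu, h, hh, hux⟩ ⟨hv, k, hk, hvx⟩
    refine ⟨mul_mem hu hv, (u * k * u⁻¹) * h, mul_mem ((mem_normalizer_iff.mp hu k).mp hk) hh, ?_⟩
    simp only [Perm.mul_apply, hvx, ← hux, inv_app]
  one_mem' := ⟨one_mem _, 1, one_mem _, rfl⟩
  inv_mem' := by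
    rintro u ⟨hu, h, hh, hux⟩
    refine ⟨inv_mem hu, (u⁻¹ * h * u)⁻¹, inv_mem ?_, ?_⟩
    · rw [mem_normalizer_iff.mp hu]
      have : u * (u⁻¹ * h * u) * u⁻¹ = h := by group
      rw [this]
      exact hh
    · have : (u⁻¹ * h * u)⁻¹ = u⁻¹ * h⁻¹ * u := by group
      rw [this]
      simp only [Perm.mul_apply, hux, inv_app]

theorem mem_T {H : Subgroup (Perm (Fin n))} {x : Fin n} {u : Perm (Fin n)} :
    u ∈ T H x ↔ u ∈ normalizer (H : Set (Perm (Fin n))) ∧ ∃ h ∈ H, u x = h x := Iff.rfl

/-- if `H` is normalized by the cycle `g` of prime order and moves a point `x` moved by `g` then the `H`-orbit of `x`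
contains the support of `g` -/
theorem orbit_of_move {p : ℕ} (hp : p.Prime) {g : Perm (Fin n)} (hg : orderOf g = p) (hc : g.IsCycle)
    {H : Subgroup (Perm (Fin n))} (hgH : g ∈ normalizer (H : Set (Perm (Fin n)))) {x : Fin n} (hx : g x ≠ x)
    {h₀ : Perm (Fin n)} (hh₀ : h₀ ∈ H) (hmove : h₀ x ≠ x) : ∀ y, g y ≠ y → ∃ h ∈ H, h x = y := by
  have hgT : g ∈ T H x := by
    by_cases hz : g (h₀ x) = h₀ x
    · refine ⟨hgH, (g * h₀⁻¹ * g⁻¹) * h₀, mul_mem ((mem_normalizer_iff.mp hgH _).mp (inv_mem hh₀)) hh₀, ?_⟩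
      have h1 : g⁻¹ (h₀ x) = h₀ x := by
        rw [Perm.inv_eq_iff_eq]
        exact hz.symm
      simp only [Perm.mul_apply, h1, inv_app]
    · obtain ⟨i, hi⟩ := hc.exists_zpow_eq hx hz
      have h1 : g ^ i ∈ T H x := ⟨zpow_mem hgH i, h₀, hh₀, hi⟩
      have h2 : g ^ i ≠ 1 := by
        intro h
        rw [h] at hi
        exact hmove hi.symm
      -- `g` is a power of `g ^ i`
      have h3 : zpowers (g ^ i) = zpowers g := by
        have : Fact p.Prime := ⟨hp⟩
        have h4 : Nat.card (zpowers g) = p := by rw [Nat.card_zpowers, hg]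
        have h5 : zpowers (g ^ i) ≤ zpowers g := zpowers_le.mpr (zpow_mem (mem_zpowers g) i)
        apply Subgroup.eq_of_le_of_card_ge h5
        have h6 : Nat.card (zpowers (g ^ i)) ∣ p := by
          rw [← h4]
          exact Subgroup.card_dvd_of_le h5
        rcases (Nat.dvd_prime hp).mp h6 with h7 | h7
        · exfalso
          rw [Nat.card_zpowers, orderOf_eq_one_iff] at h7
          exact h2 h7
        · rw [h7, h4]
      have h4 : zpowers (g ^ i) ≤ T H x := zpowers_le.mpr h1
      rw [h3] at h4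
      exact h4 (mem_zpowers g)
  intro y hy
  obtain ⟨j, hj⟩ := hc.exists_zpow_eq hx hy
  obtain ⟨-, h, hh, h1⟩ := mem_T.mp (zpow_mem hgT j)
  exact ⟨h, hh, by rw [← h1, hj]⟩

/-- if `H` is normalized by the cycle `g` and fixes a point moved by `g` then it fixes all points moved by `g` -/
theorem fix_of_fix {g : Perm (Fin n)} (hc : g.IsCycle)
    {H : Subgroup (Perm (Fin n))} (hgH : g ∈ normalizer (H : Set (Perm (Fin n)))) {x : Fin n} (hx : g x ≠ x)
    (hfix : ∀ h ∈ H, h x = x) : ∀ y, g y ≠ y → ∀ h ∈ H, h y = y := by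
  intro y hy h hh
  obtain ⟨j, rfl⟩ := hc.exists_zpow_eq hx hy
  have h1 := hfix _ ((mem_normalizer_iff.mp (inv_mem (zpow_mem hgH j)) h).mp hh)
  rw [inv_inv, Perm.mul_apply, Perm.mul_apply, Perm.inv_eq_iff_eq] at h1
  exact h1

open Classical in
/-- the orbit as a finset -/
noncomputable def orbF (H : Subgroup (Perm (Fin n))) (y : Fin n) : Finset (Fin n) :=
  Finset.univ.filter (fun z => ∃ h ∈ H, h y = z)

theorem mem_orbF {H : Subgroup (Perm (Fin n))} {y z : Fin n} : z ∈ orbF H y ↔ ∃ h ∈ H, h y = z := by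
  simp only [orbF, _root_.Finset.mem_filter, _root_.Finset.mem_univ, _root_.true_and]

theorem card_orbF (H : Subgroup (Perm (Fin n))) (y : Fin n) : (orbF H y).card = Nat.card (MulAction.orbit H y) := by
  rw [← Fintype.card_coe, ← Nat.card_eq_fintype_card]
  apply Nat.card_congr
  apply Equiv.subtypeEquivRight
  intro z
  rw [mem_orbF]
  constructor
  · rintro ⟨h, hh, rfl⟩
    exact ⟨⟨h, hh⟩, rfl⟩
  · rintro ⟨h, rfl⟩
    exact ⟨h, h.2, rfl⟩

theorem orb (H : Subgroup (Perm (Fin n))) (y : Fin n) :
    (orbF H y).card * Nat.card (H ⊓ MulAction.stabilizer (Perm (Fin n)) y : Subgroup (Perm (Fin n))) =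
      Nat.card H := by
  rw [card_orbF]
  have h1 := (MulAction.stabilizer H y).card_mul_index
  rw [MulAction.index_stabilizer] at h1
  have h2 : Nat.card (MulAction.stabilizer H y) =
      Nat.card (H ⊓ MulAction.stabilizer (Perm (Fin n)) y : Subgroup (Perm (Fin n))) := by
    have h3 : (MulAction.stabilizer H y).map H.subtype = H ⊓ MulAction.stabilizer (Perm (Fin n)) y := by
      ext h
      constructor
      · rintro ⟨h, hh, rfl⟩
        exact ⟨h.2, hh⟩
      · rintro ⟨h1, h2⟩
        exact ⟨⟨h, h1⟩, h2, rfl⟩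
    rw [← h3]
    exact Nat.card_congr ((MulAction.stabilizer H y).equivMapOfInjective _ H.subtype_injective).toEquiv
  rw [← h1, h2, mul_comm]
  rfl

theorem fact_pow {s : ℕ} (hs : s.Prime) (k : ℕ) : k * (k + 1) ≤ 2 * (s ^ k).factorial.factorization s := by
  induction k with
  | zero => simp
  | succ k ih =>
    have h1 : s ^ (k + 1) * (s ^ k).factorial ∣ (s ^ (k + 1)).factorial := by
      have h2 : s ^ k < s ^ (k + 1) := Nat.pow_lt_pow_right hs.one_lt (Nat.lt_succ_self k)
      rw [← Nat.mul_factorial_pred (n := s ^ (k + 1)) (by omega)]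
      exact Nat.mul_dvd_mul_left _ (Nat.factorial_dvd_factorial (by omega))
    have h2 := (Nat.factorization_le_iff_dvd (Nat.mul_ne_zero (pow_ne_zero _ hs.ne_zero) (Nat.factorial_ne_zero _))
      (Nat.factorial_ne_zero _)).mpr h1 s
    rw [Nat.factorization_mul (pow_ne_zero _ hs.ne_zero) (Nat.factorial_ne_zero _), Finsupp.add_apply,
      hs.factorization_pow, Finsupp.single_eq_same] at h2
    linarith only [ih, h2]

theorem fact_add_le {s n j : ℕ} (hj : j ≤ n) :
    j.factorial.factorization s + (n - j).factorial.factorization s ≤ n.factorial.factorization s := by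
  have h1 := Nat.factorial_mul_factorial_dvd_factorial_add j (n - j)
  rw [Nat.add_sub_cancel' hj] at h1
  have h2 := (Nat.factorization_le_iff_dvd (Nat.mul_ne_zero (Nat.factorial_ne_zero _) (Nat.factorial_ne_zero _))
      (Nat.factorial_ne_zero _)).mpr h1 s
  rwa [Nat.factorization_mul (Nat.factorial_ne_zero _) (Nat.factorial_ne_zero _), Finsupp.add_apply] at h2

theorem le_fact_of_dvd {s a m : ℕ} (hs : s.Prime) (h : s ^ a ∣ m.factorial) : a ≤ m.factorial.factorization s :=
  (hs.pow_dvd_iff_le_factorization (Nat.factorial_ne_zero _)).mp h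

theorem core {p s a : ℕ} (hp : p.Prime) (hs : s.Prime) (hp5 : 5 ≤ p) (hpn : p ≤ n) (hnp : n < 2 * p)
    (hsp : s ≠ p) (hsn : 2 * s ≤ n) {Q : Subgroup (Perm (Fin n))} (hQ : Nat.card Q = s ^ a)
    (ha : n.factorial.factorization s ≤ a + (if s = 2 then 1 else 0)) {g : Perm (Fin n)} (hg : orderOf g = p)
    (hgQ : g ∈ normalizer (Q : Set (Perm (Fin n)))) : False := by
  classical
  have : Fact s.Prime := ⟨hs⟩
  have hc : g.IsCycle := isCycle_of_prime_order' (by rw [hg]; exact hp) (by rw [hg, Fintype.card_fin]; exact hnp)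
  have hF : g.support.card = p := by rw [← hc.orderOf, hg]
  have hQs : IsPGroup s Q := IsPGroup.of_card hQ
  obtain ⟨x, hx, -⟩ := id hc
  by_cases hfix : ∀ h ∈ Q, h x = x
  · -- `Q` fixes the support of `g`
    have h1 : Nat.card Q ∣ (n - g.support.card).factorial := by
      apply card_dvd_of_fix
      intro q hq y hy
      exact fix_of_fix hc hgQ hx hfix y (mem_support.mp hy) q hq
    rw [hQ, hF] at h1
    have h2 := le_fact_of_dvd hs h1
    have h3 := fact_add_le (s := s) hpn
    by_cases hs2 : s = 2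
    · subst hs2
      rw [if_pos rfl] at ha
      have h4 : 2 ^ 3 ∣ p.factorial :=
        (show 2 ^ 3 ∣ Nat.factorial 5 by decide).trans (Nat.factorial_dvd_factorial hp5)
      have h5 := le_fact_of_dvd hs h4
      omega
    · rw [if_neg hs2] at ha
      have h4 : s ^ 1 ∣ p.factorial := by
        rw [pow_one]
        exact Nat.dvd_factorial hs.pos (by omega)
      have h5 := le_fact_of_dvd hs h4
      omega
  · push Not at hfix
    obtain ⟨h₀, hh₀, hmove⟩ := hfix
    have hO := orbit_of_move hp hg hc hgQ hx hh₀ hmove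
    obtain ⟨k, hk⟩ := hQs.card_orbit x
    rw [← card_orbF] at hk
    have hkn : s ^ k ≤ n := by
      rw [← hk]
      exact (Finset.card_le_univ _).trans (by rw [Fintype.card_fin])
    have hsub : g.support ⊆ orbF Q x := by
      intro y hy
      exact mem_orbF.mpr (hO y (mem_support.mp hy))
    have hpk : p ≤ s ^ k := by
      rw [← hk, ← hF]
      exact Finset.card_le_card hsub
    have hpk' : p ≠ s ^ k := by
      intro h
      have hk0 : k ≠ 0 := by
        rintro rfl
        rw [pow_zero] at h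
        omega
      have h1 : s ∣ p := by
        rw [h]
        exact dvd_pow_self s hk0
      exact hsp ((Nat.prime_dvd_prime_iff_eq hs hp).mp h1)
    -- a point of the orbit fixed by `g`
    obtain ⟨x₀, hx₀O, hx₀⟩ : ∃ x₀ ∈ orbF Q x, g x₀ = x₀ := by
      by_contra hcon
      push Not at hcon
      have h1 : orbF Q x ⊆ g.support := fun y hy => mem_support.mpr (hcon y hy)
      have h2 := Finset.card_le_card h1
      rw [hk, hF] at h2
      omega
    have horb : ∀ y ∈ orbF Q x, orbF Q y = orbF Q x := by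
      intro y hy
      obtain ⟨h, hh, rfl⟩ := mem_orbF.mp hy
      ext z
      rw [mem_orbF, mem_orbF]
      constructor
      · rintro ⟨u, hu, rfl⟩
        exact ⟨u * h, mul_mem hu hh, rfl⟩
      · rintro ⟨u, hu, rfl⟩
        exact ⟨u * h⁻¹, mul_mem hu (inv_mem hh), by rw [Perm.mul_apply, inv_app]⟩
    have hcard : ∀ y ∈ orbF Q x,
        Nat.card (Q ⊓ MulAction.stabilizer (Perm (Fin n)) y : Subgroup (Perm (Fin n))) =
          Nat.card (Q ⊓ MulAction.stabilizer (Perm (Fin n)) x : Subgroup (Perm (Fin n))) := by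
      intro y hy
      have h1 := orb Q y
      rw [horb y hy, ← orb Q x] at h1
      exact Nat.eq_of_mul_eq_mul_left (by rw [hk]; exact pow_pos hs.pos k) h1
    have hC : ∀ x₁ ∈ orbF Q x, g x₁ = x₁ → ∀ y, g y ≠ y →
        Q ⊓ MulAction.stabilizer (Perm (Fin n)) x₁ = Q ⊓ MulAction.stabilizer (Perm (Fin n)) y := by
      intro x₁ hx₁O hx₁ y hy
      have hyO : y ∈ orbF Q x := hsub (mem_support.mpr hy)
      have hgR : g ∈ normalizer ((Q ⊓ MulAction.stabilizer (Perm (Fin n)) x₁ : Subgroup (Perm (Fin n))) :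
          Set (Perm (Fin n))) := by
        have h1 : g⁻¹ x₁ = x₁ := by
          rw [Perm.inv_eq_iff_eq]
          exact hx₁.symm
        rw [mem_normalizer_iff]
        intro u
        rw [mem_inf, mem_inf, mem_normalizer_iff.mp hgQ u, MulAction.mem_stabilizer_iff, MulAction.mem_stabilizer_iff]
        apply and_congr_right
        intro _
        change u x₁ = x₁ ↔ g (u (g⁻¹ x₁)) = x₁
        rw [h1]
        constructor
        · intro h
          rw [h, hx₁]
        · intro h
          apply g.injective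
          rw [h, hx₁]
      have hle : Q ⊓ MulAction.stabilizer (Perm (Fin n)) x₁ ≤ Q ⊓ MulAction.stabilizer (Perm (Fin n)) y := by
        by_cases hR : ∀ h ∈ Q ⊓ MulAction.stabilizer (Perm (Fin n)) x₁, h x = x
        · intro h hh
          exact ⟨hh.1, fix_of_fix hc hgR hx hR y hy h hh⟩
        · exfalso
          push Not at hR
          obtain ⟨h₁, hh₁, hmove₁⟩ := hR
          have hO₁ := orbit_of_move hp hg hc hgR hx hh₁ hmove₁
          have hRs : IsPGroup s (Q ⊓ MulAction.stabilizer (Perm (Fin n)) x₁ : Subgroup (Perm (Fin n))) :=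
            hQs.to_le inf_le_left
          obtain ⟨j, hj⟩ := hRs.card_orbit x
          rw [← card_orbF] at hj
          have h2 : p ≤ s ^ j := by
            rw [← hj, ← hF]
            exact Finset.card_le_card fun y hy => mem_orbF.mpr (hO₁ y (mem_support.mp hy))
          have h3 : orbF (Q ⊓ MulAction.stabilizer (Perm (Fin n)) x₁) x ⊂ orbF Q x := by
            rw [Finset.ssubset_iff_of_subset]
            · refine ⟨x₁, hx₁O, ?_⟩
              intro h4
              obtain ⟨u, hu, hux⟩ := mem_orbF.mp h4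
              have h5 : u x₁ = x₁ := hu.2
              rw [← h5] at hux
              have h6 := u.injective hux
              rw [h6] at hx
              exact hx hx₁
            · intro z hz
              obtain ⟨u, hu, rfl⟩ := mem_orbF.mp hz
              exact mem_orbF.mpr ⟨u, hu.1, rfl⟩
          have h4 := Finset.card_lt_card h3
          rw [hj, hk] at h4
          have h5 : j < k := (Nat.pow_lt_pow_iff_right hs.one_lt).mp h4
          have h6 : s ^ (j + 1) ≤ s ^ k := Nat.pow_le_pow_right hs.pos h5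
          have h7 : 2 * s ^ j ≤ s ^ (j + 1) := by
            rw [pow_succ']
            exact Nat.mul_le_mul_right _ hs.two_le
          omega
      apply Subgroup.eq_of_le_of_card_ge hle
      rw [hcard y hyO, hcard x₁ hx₁O]
    have hR : ∀ q ∈ Q ⊓ MulAction.stabilizer (Perm (Fin n)) x, ∀ y ∈ orbF Q x, q y = y := by
      intro q hq y hy
      have h1 : Q ⊓ MulAction.stabilizer (Perm (Fin n)) y = Q ⊓ MulAction.stabilizer (Perm (Fin n)) x := by
        by_cases hgy : g y = y
        · exact hC y hy hgy x hx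
        · rw [← hC x₀ hx₀O hx₀ y hgy, hC x₀ hx₀O hx₀ x hx]
      rw [← h1] at hq
      exact hq.2
    have h1 := card_dvd_of_fix hR
    have h2 := orb Q x
    rw [hQ, hk] at h2
    obtain ⟨r, hr, hr'⟩ := (Nat.dvd_prime_pow hs).mp (Dvd.intro_left _ h2)
    rw [hr', hk] at h1
    rw [hr', ← pow_add] at h2
    have h3 : k + r = a := Nat.pow_right_injective hs.two_le h2
    have h4 := le_fact_of_dvd hs h1
    have h5 := fact_add_le (s := s) hkn
    have h6 := fact_pow hs k
    have hk2 : 2 ≤ k := by
      by_contra hlt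
      have : s ^ k ≤ s ^ 1 := Nat.pow_le_pow_right hs.pos (by omega)
      rw [pow_one] at this
      omega
    by_cases hs2 : s = 2
    · subst hs2
      rw [if_pos rfl] at ha
      have h7 : k < 3 := by
        by_contra hlt
        nlinarith only [h3, ha, h4, h5, h6, hlt]
      interval_cases k
      omega
    · rw [if_neg hs2] at ha
      nlinarith only [ha, h3, h4, h5, h6, hk2]

/-- **Sylow normalizers of `A_n` and large primes** -/
theorem not_dvd_normalizer {p s : ℕ} (hp : p.Prime) [hs : Fact s.Prime] (hp5 : 5 ≤ p) (hpn : p ≤ n) (hnp : n < 2 * p)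
    (hsp : s ≠ p) (hsA : s ∣ Nat.card (alternatingGroup (Fin n))) (Q : Sylow s (alternatingGroup (Fin n))) :
    ¬ p ∣ Nat.card (normalizer ((Q : Subgroup (alternatingGroup (Fin n))) : Set (alternatingGroup (Fin n)))) := by
  intro hd
  have : Fact p.Prime := ⟨hp⟩
  obtain ⟨g, hg⟩ := exists_prime_orderOf_dvd_card' p hd
  have hn2 : 2 ≤ n := by omega
  have hA := card_alternating hn2
  have hsn : s ≤ n := by
    rw [← hs.out.dvd_factorial, ← hA]
    exact hsA.mul_left 2
  have hfac : n.factorial.factorization s = (if s = 2 then 1 else 0) +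
      (Nat.card (alternatingGroup (Fin n))).factorization s := by
    rw [← hA, Nat.factorization_mul (by norm_num) Nat.card_pos.ne', Finsupp.add_apply,
      Nat.Prime.factorization Nat.prime_two, Finsupp.single_apply]
    congr 1
    by_cases h : s = 2
    · rw [if_pos h, if_pos h.symm]
    · rw [if_neg h, if_neg (Ne.symm h)]
  have hg' : orderOf (g : alternatingGroup (Fin n)) = p := by rw [Subgroup.orderOf_coe, hg]
  rcases Nat.lt_or_ge n (2 * s) with h2s | h2s
  · -- `s` is large as well
    have h1 := dvd_card_sub_one hp hs.out (Ne.symm hsp)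
      (nonAdj_alternating (n := n) hp hs.out (Ne.symm hsp) hnp h2s) (Q := zpowers (g : alternatingGroup (Fin n)))
      (S := (Q : Subgroup (alternatingGroup (Fin n)))) (IsPGroup.of_card (n := 1) (by
        rw [Nat.card_zpowers, hg', pow_one])) Q.2 (zpowers_le.mpr g.2)
    rw [Nat.card_zpowers, hg', Q.card_eq_multiplicity] at h1
    have h2 : (Nat.card (alternatingGroup (Fin n))).factorization s = 1 := by
      apply factorization_alternating hn2 hs.out _ hsn h2s
      rintro rfl
      omega
    rw [h2, pow_one] at h1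
    obtain ⟨c, hc⟩ := h1
    have hs3 : s ≠ 2 := by
      rintro rfl
      omega
    obtain ⟨u, hu⟩ := hs.out.odd_of_ne_two hs3
    obtain ⟨v, hv⟩ := hp.odd_of_ne_two (by omega)
    have hc2 : c < 2 := by
      by_contra hlt
      have : p * 2 ≤ p * c := Nat.mul_le_mul_left p (by omega)
      (clear * - hnp hsn hc this; omega)
    interval_cases c
    · omega
    · omega
  · refine core (n := n) hp hs.out hp5 hpn hnp hsp h2s (a := (Nat.card (alternatingGroup (Fin n))).factorization s)
      (Q := (Q : Subgroup (alternatingGroup (Fin n))).map (alternatingGroup (Fin n)).subtype)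
      (g := ((g : alternatingGroup (Fin n)) : Perm (Fin n))) ?_ ?_ ?_ ?_
    · rw [← Nat.card_congr ((Q : Subgroup (alternatingGroup (Fin n))).equivMapOfInjective
        (alternatingGroup (Fin n)).subtype (alternatingGroup (Fin n)).subtype_injective).toEquiv]
      exact Q.card_eq_multiplicity
    · rw [hfac, add_comm]
    · rw [Subgroup.orderOf_coe, hg']
    · rw [mem_normalizer_iff]
      intro u
      constructor
      · rintro ⟨v, hv, rfl⟩
        exact ⟨g * v * g⁻¹, (mem_normalizer_iff.mp g.2 v).mp hv, rfl⟩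
      · rintro ⟨v, hv, hvu⟩
        refine ⟨(g : alternatingGroup (Fin n))⁻¹ * v * g, ?_, ?_⟩
        · rw [SetLike.mem_coe, mem_normalizer_iff.mp g.2]
          have : (g : alternatingGroup (Fin n)) * ((g : alternatingGroup (Fin n))⁻¹ * v * g) *
            (g : alternatingGroup (Fin n))⁻¹ = v := by group
          rw [this]
          exact hv
        · rw [map_mul, map_mul, hvu, map_inv]
          change ((g : alternatingGroup (Fin n)) : Perm (Fin n))⁻¹ * (((g : alternatingGroup (Fin n)) : Perm (Fin n)) *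
            u * ((g : alternatingGroup (Fin n)) : Perm (Fin n))⁻¹) * ((g : alternatingGroup (Fin n)) : Perm (Fin n)) = u
          group

end Cfsg.Agent.H428.SylNorm.Alt
end

-- part: H428/SylNorm/Large
section
/-!
# Groups with the Sylow numbers of `A_n` for the large primes, `n ≥ 13` (helper428)
-/

set_option autoImplicit false

namespace Cfsg.Agent.H428.SylNorm

open Subgroup Cfsg Cfsg.Agent.OrdDiv Cfsg.Agent.H357.Reduce Cfsg.Agent.H363.AltPrimes Cfsg.Agent.H405.Shape

universe u

/-- the hypotheses: the order of `A_n` and the Sylow numbers for the primes greater than `n / 2` -/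
structure Hyp2 (G : Type u) [Group G] (n : ℕ) : Prop where
  card : 2 * Nat.card G = n.factorial
  syl : ∀ p : ℕ, p.Prime → 5 ≤ p → p ≤ n → n < 2 * p →
    Nat.card (Sylow p G) * (p * (p - 1) * (n - p).factorial) = n.factorial

variable {G : Type u} [Group G] [Finite G] {n : ℕ}

theorem Hyp2.fac_odd (h : Hyp2 G n) {t : ℕ} (ht2 : t ≠ 2) :
    (Nat.card G).factorization t = n.factorial.factorization t := by
  rw [← h.card, Nat.factorization_mul (by norm_num) Nat.card_pos.ne', Finsupp.add_apply,
    Nat.Prime.factorization Nat.prime_two, Finsupp.single_apply, if_neg (Ne.symm ht2), zero_add]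

theorem Hyp2.fac_le (h : Hyp2 G n) (t : ℕ) : (Nat.card G).factorization t ≤ n.factorial.factorization t := by
  rw [← h.card, Nat.factorization_mul (by norm_num) Nat.card_pos.ne', Finsupp.add_apply]
  omega

theorem Hyp2.fac_one (h : Hyp2 G n) {p : ℕ} (hp : p.Prime) (hp5 : 5 ≤ p) (hpn : p ≤ n) (hnp : n < 2 * p) :
    (Nat.card G).factorization p = 1 := by
  rw [h.fac_odd (by omega)]
  exact factorization_factorial hp hpn hnp

theorem Hyp2.norm (h : Hyp2 G n) {p : ℕ} [hp : Fact p.Prime] (hp5 : 5 ≤ p) (hpn : p ≤ n) (hnp : n < 2 * p)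
    (P : Sylow p G) : 2 * Nat.card (normalizer ((P : Subgroup G) : Set G)) = p * (p - 1) * (n - p).factorial := by
  have h1 := h.syl p hp.out hp5 hpn hnp
  have h2 : Nat.card (Sylow p G) = (normalizer ((P : Subgroup G) : Set G)).index := P.card_eq_index_normalizer
  rw [← h.card, h2, ← (normalizer ((P : Subgroup G) : Set G)).card_mul_index] at h1
  have h3 : 0 < (normalizer ((P : Subgroup G) : Set G)).index :=
    Nat.pos_of_ne_zero Subgroup.index_ne_zero_of_finite
  apply Nat.eq_of_mul_eq_mul_left h3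
  rw [h1]
  ring

/-- the frame, numerically -/
theorem Hyp2.frame (h : Hyp2 G n) {p t : ℕ} (hp : p.Prime) (hp5 : 5 ≤ p) (hpn : p ≤ n) (hnp : n < 2 * p)
    (ht : t.Prime) (htp : t ≠ p) (N : Subgroup G) [N.Normal] (hpN : p ∣ N.index) :
    ∃ b, b ≤ (Nat.card N).factorization t ∧ t ^ b ∣ p * (p - 1) * (n - p).factorial ∧
      p ∣ t ^ ((Nat.card N).factorization t - b) - 1 := by
  have : Fact p.Prime := ⟨hp⟩
  obtain ⟨P, S, hSN, hS, -, hPS⟩ := exists_frame ht htp (h.fac_one hp hp5 hpn hnp) N hpN
  obtain ⟨b, hb, hc, hd⟩ := fixed_modEq ht htp P.2 hS hPS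
  refine ⟨b, hb, ?_, hd⟩
  rw [← h.norm hp5 hpn hnp P, ← hc]
  exact ((Subgroup.card_dvd_of_le inf_le_right).trans
    (Subgroup.card_dvd_of_le (centralizer_le_normalizer _))).mul_left 2

theorem card_eq' (N : Subgroup G) [N.Normal] (M : Subgroup (G ⧸ N)) :
    Nat.card G = Nat.card N * (Nat.card M * M.index) := by
  rw [M.card_mul_index, ← Subgroup.index_eq_card, N.card_mul_index]

/-- the Sylow numbers of the section -/
theorem card_sylow_section {p : ℕ} [hp : Fact p.Prime] (h1 : (Nat.card G).factorization p = 1) (N : Subgroup G)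
    [N.Normal] (M : Subgroup (G ⧸ N)) [M.Normal] (hpM : p ∣ Nat.card M) :
    Nat.card (Sylow p (G ⧸ N)) = Nat.card (Sylow p M) := by
  apply card_sylow_normal
  intro hd
  have h2 : p ^ 2 ∣ Nat.card G := by
    rw [card_eq' N M, pow_two]
    exact (Nat.mul_dvd_mul hpM hd).mul_left _
  have h3 := (hp.out.pow_dvd_iff_le_factorization Nat.card_pos.ne').mp h2
  omega

theorem card_sylow_le {A B : Type*} [Group A] [Finite A] [Group B] [Finite B] {p : ℕ} [Fact p.Prime] (f : A →* B)
    (hf : Function.Bijective f) : Nat.card (Sylow p A) ≤ Nat.card (Sylow p B) := by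
  refine Nat.card_le_card_of_injective (fun P : Sylow p A => P.mapSurjective hf.2) fun P Q h => Sylow.ext ?_
  apply Subgroup.map_injective hf.1
  rw [← Sylow.coe_mapSurjective hf.2, ← Sylow.coe_mapSurjective hf.2]
  exact congrArg Sylow.toSubgroup h

theorem card_sylow_congr {A B : Type*} [Group A] [Finite A] [Group B] [Finite B] {p : ℕ} [Fact p.Prime] (e : A ≃* B) :
    Nat.card (Sylow p A) = Nat.card (Sylow p B) :=
  le_antisymm (card_sylow_le e.toMonoidHom e.bijective) (card_sylow_le e.symm.toMonoidHom e.symm.bijective)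

theorem card_sylow_dvd {H : Type u} [Group H] [Finite H] (p : ℕ) [Fact p.Prime] : Nat.card (Sylow p H) ∣ Nat.card H := by
  obtain ⟨P⟩ : Nonempty (Sylow p H) := inferInstance
  rw [P.card_eq_index_normalizer]
  exact Subgroup.index_dvd_card _

/-- the `t`-part of the Sylow number divides the order of the section -/
theorem section_fac {p t : ℕ} [hp : Fact p.Prime] (ht : t.Prime) (htp : t ≠ p)
    (h1 : (Nat.card G).factorization p = 1) (N : Subgroup G) [N.Normal] (M : Subgroup (G ⧸ N)) [M.Normal]
    (hpM : p ∣ Nat.card M) (hno : ∀ c, 1 ≤ c → c ≤ (Nat.card N).factorization t → ¬ p ∣ t ^ c - 1) :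
    (Nat.card (Sylow p G)).factorization t ≤ (Nat.card M).factorization t := by
  have hpN : p ∣ N.index := by
    rw [Subgroup.index_eq_card, ← M.card_mul_index]
    exact hpM.mul_right _
  rw [factorization_sylow_eq ht htp h1 N hpN hno, card_sylow_section h1 N M hpM]
  exact (Nat.factorization_le_iff_dvd Nat.card_pos.ne' Nat.card_pos.ne').mpr (card_sylow_dvd p) t

/-- the `t`-part of the Sylow number -/
theorem Hyp2.syl_fac (h : Hyp2 G n) {p t : ℕ} (hp : p.Prime) (hp5 : 5 ≤ p) (hpn : p ≤ n) (hnp : n < 2 * p)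
    (hd : ¬ t ∣ p * (p - 1) * (n - p).factorial) :
    (Nat.card (Sylow p G)).factorization t = n.factorial.factorization t := by
  rw [← h.syl p hp hp5 hpn hnp, Nat.factorization_mul Nat.card_pos.ne' ?_, Finsupp.add_apply,
    Nat.factorization_eq_zero_of_not_dvd hd, add_zero]
  exact Nat.mul_ne_zero (Nat.mul_ne_zero (by omega) (by omega)) (Nat.factorial_ne_zero _)

theorem exists_data2 (hn : 11 ≤ n) (h : Hyp2 G n) :
    ∃ (N : Subgroup G) (_ : N.Normal) (M : Subgroup (G ⧸ N)), Data G n N M := by
  obtain ⟨p, s, hp, hs, hnp, hps, hsn⟩ := Cfsg.Agent.H363.TwoPrimes.exists_two_primes' n hn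
  have h1 := h.fac_one hp (by omega) (by omega) hnp
  obtain ⟨N, hN, M, hM, hsimple, hpM, hpN, hcent⟩ := locate hp h1
  have : Fact p.Prime := ⟨hp⟩
  have hall : ∀ q : ℕ, q.Prime → n < 2 * q → q ≤ n → q ∣ Nat.card M := by
    intro q hq hq1 hq2
    by_cases hqp : q = p
    · rw [hqp]; exact hpM
    rw [hq.dvd_iff_one_le_factorization Nat.card_pos.ne']
    have h2 : (Nat.card (Sylow p G)).factorization q = 1 := by
      rw [h.syl_fac hp (by omega) (by omega) hnp, factorization_factorial hq hq2 hq1]
      intro hd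
      rcases hq.dvd_mul.mp hd with hd | hd
      · rcases hq.dvd_mul.mp hd with hd | hd
        · exact hqp ((Nat.prime_dvd_prime_iff_eq hq hp).mp hd)
        · exact not_dvd_sub_one hn hq hp hq1 (by omega) hd
      · rw [hq.dvd_factorial] at hd
        omega
    rw [← h2]
    refine section_fac hq hqp h1 N M hpM fun c hc1 hc2 => ?_
    have h3 : (Nat.card N).factorization q ≤ 1 := by
      have h4 : (Nat.card N).factorization q ≤ (Nat.card G).factorization q :=
        (Nat.factorization_le_iff_dvd Nat.card_pos.ne' Nat.card_pos.ne').mpr (Subgroup.card_subgroup_dvd_card N) q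
      rw [h.fac_one hq (by omega) hq2 hq1] at h4
      exact h4
    have h4 : c = 1 := by omega
    rw [h4, pow_one]
    exact not_dvd_sub_one hn hp hq hnp hq2
  refine ⟨N, hN, M, hM, hsimple, ?_, hcent ?_, hall⟩ <;>
  · intro hcommM
    have hsM : s ∣ Nat.card M := hall s hs (by omega) hsn
    let _ : CommGroup M := { (inferInstance : Group M) with mul_comm := hcommM }
    have hprime : (Nat.card M).Prime := IsSimpleGroup.prime_card
    have h1 := (Nat.prime_dvd_prime_iff_eq hp hprime).mp hpM
    have h2 := (Nat.prime_dvd_prime_iff_eq hs hprime).mp hsM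
    omega

/-- the key estimate for `n ≥ 41` -/
theorem B_aux (h : Hyp2 G n) (hn : 41 ≤ n) {N : Subgroup G} [N.Normal] {M : Subgroup (G ⧸ N)} (D : Data G n N M)
    {p q t : ℕ} (hp : p.Prime) (hq : q.Prime) (ht : t.Prime) (hpq : p ≠ q) (hpn : p ≤ n) (hqn : q ≤ n)
    (hp4 : 4 * n < 5 * p) (hq4 : 4 * n < 5 * q) (h5 : n < 5 * t) (h2t : 2 * t ≤ n) (hnd : ¬ t ∣ p - 1) :
    n / t ≤ (Nat.card M).factorization t := by
  have : Fact p.Prime := ⟨hp⟩
  have hM := D.normal
  have hpM := D.primes p hp (by omega) hpn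
  have hqM := D.primes q hq (by omega) hqn
  have hidx : ∀ r : ℕ, r ∣ Nat.card M → r ∣ N.index := by
    intro r hr
    rw [Subgroup.index_eq_card, ← M.card_mul_index]
    exact hr.mul_right _
  have hnt : n < t * t := by
    have : 5 ≤ t := by omega
    nlinarith only [hn, h5]
  have hvn : n.factorial.factorization t = n / t := factorial_factorization ht hnt
  have htp : t ≠ p := by omega
  have htq : t ≠ q := by omega
  have hnd' : ¬ t ∣ p * (p - 1) * (n - p).factorial := by
    intro hd
    rcases ht.dvd_mul.mp hd with hd | hd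
    · rcases ht.dvd_mul.mp hd with hd | hd
      · exact htp ((Nat.prime_dvd_prime_iff_eq ht hp).mp hd)
      · exact hnd hd
    · rw [ht.dvd_factorial] at hd
      omega
  rw [← hvn, ← h.syl_fac hp (by omega) hpn (by omega) hnd']
  refine section_fac ht htp (h.fac_one hp (by omega) hpn (by omega)) N M hpM ?_
  -- the action on a Sylow `t`-subgroup of `N`
  have ha4 : (Nat.card N).factorization t * t ≤ n := by
    have e1 : (Nat.card N).factorization t ≤ (Nat.card G).factorization t :=
      (Nat.factorization_le_iff_dvd Nat.card_pos.ne' Nat.card_pos.ne').mpr (Subgroup.card_subgroup_dvd_card N) t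
    have e2 := e1.trans (h.fac_le t)
    rw [hvn] at e2
    calc (Nat.card N).factorization t * t ≤ n / t * t := Nat.mul_le_mul_right t e2
      _ ≤ n := Nat.div_mul_le_self n t
  obtain ⟨b, hb, hb1, hb2⟩ := h.frame hp (by omega) hpn (by omega) ht htp N (hidx p hpM)
  obtain ⟨b', hb', hb1', hb2'⟩ := h.frame hq (by omega) hqn (by omega) ht htq N (hidx q hqM)
  have hb0 : b = 0 := by
    by_contra hne
    exact hnd' ((dvd_pow_self t hne).trans hb1)
  subst hb0
  rw [Nat.sub_zero] at hb2
  have hb1'' : t ^ b' ∣ q - 1 := by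
    have h1 : Nat.Coprime (t ^ b') (n - q).factorial := by
      apply Nat.Coprime.pow_left
      rw [ht.coprime_iff_not_dvd, ht.dvd_factorial]
      omega
    have h2 := h1.dvd_of_dvd_mul_right hb1'
    have h3 : Nat.Coprime (t ^ b') q := by
      apply Nat.Coprime.pow_left
      exact (Nat.coprime_primes ht hq).mpr htq
    exact h3.dvd_of_dvd_mul_left h2
  have hb'1 : b' ≤ 1 := by
    by_contra hlt
    have h1 : t ^ 2 ∣ q - 1 := (pow_dvd_pow t (by omega)).trans hb1''
    have h2 := Nat.le_of_dvd (by omega) h1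
    rw [pow_two] at h2
    omega
  have hcop : p.Coprime q := (Nat.coprime_primes hp hq).2 hpq
  intro c hc1 hc2 hdc
  have ht9 : 9 ≤ t := by omega
  generalize (Nat.card N).factorization t = a at *
  have ha : a ≤ 4 := by
    by_contra hlt
    have : 5 * t ≤ a * t := Nat.mul_le_mul_right t (by omega)
    omega
  obtain ⟨u, rfl⟩ : ∃ u, t = u + 1 := ⟨t - 1, by omega⟩
  have hp0 : ¬ p ∣ u := fun hd => by
    have := Nat.le_of_dvd (by omega) hd
    omega
  have hq0 : ¬ q ∣ u := fun hd => by
    have := Nat.le_of_dvd (by omega) hd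
    omega
  have hp1 : ¬ p ∣ u + 2 := fun hd => by
    have := Nat.le_of_dvd (by omega) hd
    omega
  have hq1 : ¬ q ∣ u + 2 := fun hd => by
    have := Nat.le_of_dvd (by omega) hd
    omega
  have e2 : (u + 1) ^ 2 - 1 = u * (u + 2) := by
    have : (u + 1) ^ 2 = u * (u + 2) + 1 := by ring
    omega
  have e3 : (u + 1) ^ 3 - 1 = u * (u ^ 2 + 3 * u + 3) := by
    have : (u + 1) ^ 3 = u * (u ^ 2 + 3 * u + 3) + 1 := by ring
    omega
  have e4 : (u + 1) ^ 4 - 1 = u * ((u + 2) * (u ^ 2 + 2 * u + 2)) := by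
    have : (u + 1) ^ 4 = u * ((u + 2) * (u ^ 2 + 2 * u + 2)) + 1 := by ring
    omega
  have ha' : a = 0 ∨ a = 1 ∨ a = 2 ∨ a = 3 ∨ a = 4 := by omega
  have hb'' : b' = 0 ∨ b' = 1 := by omega
  rcases ha' with rfl | rfl | rfl | rfl | rfl
  · omega
  · rw [pow_one, Nat.add_sub_cancel] at hb2
    exact hp0 hb2
  · rw [e2] at hb2
    exact hp1 ((hp.dvd_mul.1 hb2).resolve_left hp0)
  · rw [e3] at hb2
    have h6 := (hp.dvd_mul.1 hb2).resolve_left hp0
    rcases hb'' with rfl | rfl
    · rw [Nat.sub_zero, e3] at hb2'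
      have h7 := (hq.dvd_mul.1 hb2').resolve_left hq0
      have h8 := Nat.le_of_dvd (by (clear * -; positivity)) (hcop.mul_dvd_of_dvd_of_dvd h6 h7)
      nlinarith only [hp4, hq4, ha4, h8]
    · rw [show 3 - 1 = 2 by norm_num, e2] at hb2'
      exact hq1 ((hq.dvd_mul.1 hb2').resolve_left hq0)
  · rw [e4] at hb2
    have h6 := ((hp.dvd_mul.1 ((hp.dvd_mul.1 hb2).resolve_left hp0))).resolve_left hp1
    rcases hb'' with rfl | rfl
    · rw [Nat.sub_zero, e4] at hb2'
      have h7 := ((hq.dvd_mul.1 ((hq.dvd_mul.1 hb2').resolve_left hq0))).resolve_left hq1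
      have h8 := Nat.le_of_dvd (by (clear * -; positivity)) (hcop.mul_dvd_of_dvd_of_dvd h6 h7)
      nlinarith only [hp4, hq4, ha4, h8]
    · rw [show 4 - 1 = 3 by norm_num, e3] at hb2'
      have h7 := (hq.dvd_mul.1 hb2').resolve_left hq0
      rw [pow_one] at hb1''
      obtain ⟨d, hd⟩ := hb1''
      have hd4 : d = 4 := by
        have h8 : d < 5 := by
          by_contra hlt
          have : (u + 1) * 5 ≤ (u + 1) * d := Nat.mul_le_mul_left _ (by omega)
          (clear * - hqn h5 hd this; omega)
        have h9 : 3 < d := by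
          by_contra hlt
          have : (u + 1) * d ≤ (u + 1) * 3 := Nat.mul_le_mul_left _ (by omega)
          omega
        omega
      subst hd4
      have h8 : q = 4 * u + 5 := by (clear * - hd; omega)
      have h9 : 16 * (u ^ 2 + 3 * u + 3) = q * (4 * u + 7) + 13 := by
        rw [h8]
        ring
      have h10 : q ∣ 13 := by
        have h11 : q ∣ 16 * (u ^ 2 + 3 * u + 3) := h7.mul_left 16
        rw [h9] at h11
        exact (Nat.dvd_add_right (Dvd.intro _ rfl)).mp h11
      have := Nat.le_of_dvd (by norm_num) h10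
      omega

theorem B_dvd2 (h : Hyp2 G n) (hn : 41 ≤ n) {N : Subgroup G} [N.Normal] {M : Subgroup (G ⧸ N)} (D : Data G n N M) :
    Cfsg.Agent.H357.Cheb.B n ∣ Nat.card M := by
  refine B_dvd_of Nat.card_pos.ne' fun t ht h5 htn => ?_
  rcases Nat.lt_or_ge n (2 * t) with h2t | h2t
  · have h1 := D.primes t ht h2t htn
    have h2 : n / t ≤ 1 := by
      rw [← Nat.lt_succ_iff, Nat.div_lt_iff_lt_mul ht.pos]
      exact h2t
    exact h2.trans ((ht.dvd_iff_one_le_factorization Nat.card_pos.ne').mp h1)
  · obtain ⟨r, s, hr, hs, h1, h2, h3⟩ := Cfsg.Agent.H357.NT.two_primes hn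
    by_cases hd : t ∣ r - 1
    · refine B_aux h hn D hs hr ht (by omega) h3 (by omega) (by omega) h1 h5 h2t ?_
      intro hd'
      have h4 : t ∣ s - r := by
        have := Nat.dvd_sub hd' hd
        rwa [show s - 1 - (r - 1) = s - r by omega] at this
      have h5 := Nat.le_of_dvd (by omega) h4
      omega
    · exact B_aux h hn D hr hs ht (by omega) (by omega) h3 h1 (by omega) h5 h2t hd

theorem exists_alt2 (T : OrderTable.{u}) {N : Subgroup G} [N.Normal]
    {M : Subgroup (G ⧸ N)} (D : Data G n N M) (h : Hyp2 G n) (hn : 13 ≤ n) (hk : IsKnownSimple' M) :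
    ∃ m, Nonempty (M ≃* alternatingGroup (Fin m)) := by
  have hdvd : Nat.card M ∣ n.factorial := by
    rw [← h.card]
    exact D.card_dvd.mul_left 2
  rcases Nat.lt_or_ge n 41 with h41 | h41
  · have key : ∀ {l : List (ℕ × ℕ)} {b : ℕ} {L : List ℕ}, Cfsg.Agent.H357.Small.chk l b.factorial L = true → n ≤ b →
        (∀ p ∈ L, p.Prime ∧ b < 2 * p ∧ p ≤ n) → ∃ m, Nonempty (M ≃* alternatingGroup (Fin m)) := by
      intro l b L hchk hnb hL
      refine Cfsg.Agent.H357.Main.of_chk T hk D.nonab hchk (hdvd.trans (Nat.factorial_dvd_factorial hnb)) fun p hp => ?_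
      obtain ⟨h1, h2, h3⟩ := hL p hp
      exact D.primes p h1 (by omega) h3
    rcases Nat.lt_or_ge n 17 with h17 | h17
    · refine key (b := 16) (by rw [show Nat.factorial 16 = 20922789888000 by rfl]; exact Cfsg.Agent.H357.Small.chk13) (by omega) ?_
      intro p hp
      simp only [List.mem_cons, List.not_mem_nil, or_false] at hp
      rcases hp with rfl | rfl <;> exact ⟨by norm_num, by norm_num, by omega⟩
    rcases Nat.lt_or_ge n 19 with h19 | h19
    · refine key (b := 18) (by rw [show Nat.factorial 18 = 6402373705728000 by rfl]; exact Cfsg.Agent.H357.Small.chk17) (by omega) ?_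
      intro p hp
      simp only [List.mem_cons, List.not_mem_nil, or_false] at hp
      rcases hp with rfl | rfl | rfl <;> exact ⟨by norm_num, by norm_num, by omega⟩
    rcases Nat.lt_or_ge n 23 with h23 | h23
    · refine key (b := 22) (by rw [show Nat.factorial 22 = 1124000727777607680000 by rfl]; exact Cfsg.Agent.H357.Small.chk19) (by omega) ?_
      intro p hp
      simp only [List.mem_cons, List.not_mem_nil, or_false] at hp
      rcases hp with rfl | rfl | rfl <;> exact ⟨by norm_num, by norm_num, by omega⟩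
    rcases Nat.lt_or_ge n 29 with h29 | h29
    · refine key (b := 28) (by rw [show Nat.factorial 28 = 304888344611713860501504000000 by rfl]; exact Cfsg.Agent.H357.Small.chk23) (by omega) ?_
      intro p hp
      simp only [List.mem_cons, List.not_mem_nil, or_false] at hp
      rcases hp with rfl | rfl | rfl <;> exact ⟨by norm_num, by norm_num, by omega⟩
    rcases Nat.lt_or_ge n 31 with h31 | h31
    · refine key (b := 30) (by rw [show Nat.factorial 30 = 265252859812191058636308480000000 by rfl]; exact Cfsg.Agent.H357.Small.chk29) (by omega) ?_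
      intro p hp
      simp only [List.mem_cons, List.not_mem_nil, or_false] at hp
      rcases hp with rfl | rfl | rfl | rfl <;> exact ⟨by norm_num, by norm_num, by omega⟩
    rcases Nat.lt_or_ge n 37 with h37 | h37
    · refine key (b := 36) (by rw [show Nat.factorial 36 = 371993326789901217467999448150835200000000 by rfl]; exact Cfsg.Agent.H357.Small.chk31) (by omega) ?_
      intro p hp
      simp only [List.mem_cons, List.not_mem_nil, or_false] at hp
      rcases hp with rfl | rfl | rfl | rfl <;> exact ⟨by norm_num, by norm_num, by omega⟩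
    · refine key (b := 40) (by rw [show Nat.factorial 40 = 815915283247897734345611269596115894272000000000 by rfl]; exact Cfsg.Agent.H357.Small.chk37) (by omega) ?_
      intro p hp
      simp only [List.mem_cons, List.not_mem_nil, or_false] at hp
      rcases hp with rfl | rfl | rfl | rfl <;> exact ⟨by norm_num, by norm_num, by omega⟩
  · obtain ⟨g, hr, ho⟩ := exists_shape T hk D.nonab
    obtain ⟨m, rfl⟩ := Cfsg.Agent.H357.LieBound.arith h41 hdvd (B_dvd2 h h41 D) D.primes ho
    exact ⟨m, hr⟩

/-! ### the degree -/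

/-- a prime greater than `4 n / 5` -/
theorem exists_large_prime (hn : 13 ≤ n) : ∃ q : ℕ, q.Prime ∧ q ≤ n ∧ 4 * n < 5 * q := by
  rcases Nat.lt_or_ge n 41 with h | h
  · rcases Nat.lt_or_ge n 17 with h17 | h17
    · exact ⟨13, by norm_num, by omega, by omega⟩
    rcases Nat.lt_or_ge n 19 with h19 | h19
    · exact ⟨17, by norm_num, by omega, by omega⟩
    rcases Nat.lt_or_ge n 23 with h23 | h23
    · exact ⟨19, by norm_num, by omega, by omega⟩
    rcases Nat.lt_or_ge n 29 with h29 | h29
    · exact ⟨23, by norm_num, by omega, by omega⟩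
    rcases Nat.lt_or_ge n 31 with h31 | h31
    · exact ⟨29, by norm_num, by omega, by omega⟩
    rcases Nat.lt_or_ge n 37 with h37 | h37
    · exact ⟨31, by norm_num, by omega, by omega⟩
    · exact ⟨37, by norm_num, by omega, by omega⟩
  · obtain ⟨r, s, hr, hs, h1, h2, h3⟩ := Cfsg.Agent.H357.NT.two_primes h
    exact ⟨r, hr, by omega, h1⟩

theorem fac_bound {m t : ℕ} (hm : 13 ≤ m) (hmn : m ≤ n) (h4 : 4 * n < 5 * m) (ht : t.Prime) :
    n.factorial.factorization t + 2 < m + m.factorial.factorization t := by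
  have h1 := Cfsg.Agent.H357.LieBound.mul_factorization_lt ht (n := n) (by omega)
  rcases Nat.eq_or_lt_of_le ht.two_le with h2 | h2
  · subst h2
    have h3 : m / 2 + m / 4 ≤ m.factorial.factorization 2 := by
      have h5 : 2 ^ (m / 2) * (m / 2).factorial ∣ m.factorial := by
        have h6 : (2 * (m / 2)).factorial ∣ m.factorial := Nat.factorial_dvd_factorial (by omega)
        refine dvd_trans ?_ h6
        generalize m / 2 = k
        induction k with
        | zero => simp
        | succ k ih =>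
          rw [show 2 * (k + 1) = 2 * k + 1 + 1 by ring, Nat.factorial_succ, Nat.factorial_succ, Nat.factorial_succ,
            pow_succ]
          have h7 : 2 ^ k * 2 * ((k + 1) * k.factorial) = (2 * k + 1 + 1) * (2 ^ k * k.factorial) := by ring
          rw [h7]
          exact Nat.mul_dvd_mul_left _ (ih.mul_left _)
      have h6 : 2 ^ (m / 4) ∣ (m / 2).factorial := by
        have h7 : (2 * (m / 4)).factorial ∣ (m / 2).factorial := Nat.factorial_dvd_factorial (by omega)
        refine dvd_trans ?_ h7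
        generalize m / 4 = k
        induction k with
        | zero => simp
        | succ k ih =>
          rw [show 2 * (k + 1) = 2 * k + 1 + 1 by ring, Nat.factorial_succ, Nat.factorial_succ, pow_succ]
          have h8 : 2 ^ k * 2 ∣ (2 * k).factorial * (2 * (k + 1)) := Nat.mul_dvd_mul ih (Dvd.intro _ rfl)
          refine h8.trans ?_
          have h9 : (2 * k + 1 + 1) * ((2 * k + 1) * (2 * k).factorial) =
            (2 * k).factorial * (2 * (k + 1)) * (2 * k + 1) := by ring
          rw [h9]
          exact Dvd.intro _ rfl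
      rw [← (Nat.prime_two).pow_dvd_iff_le_factorization (Nat.factorial_ne_zero _), pow_add]
      exact (Nat.mul_dvd_mul_left _ h6).trans h5
    omega
  · have h3 : 2 * n.factorial.factorization t ≤ (t - 1) * n.factorial.factorization t :=
      Nat.mul_le_mul_right _ (by omega)
    omega

theorem choose_lt {m p : ℕ} (hp : 1 ≤ p) (hpm : p ≤ m) (hmn : m < n) : m.choose p < n.choose p := by
  have h1 : m.choose p < (m + 1).choose p := by
    obtain ⟨q, rfl⟩ : ∃ q, p = q + 1 := ⟨p - 1, by omega⟩
    rw [Nat.choose_succ_succ']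
    have := Nat.choose_pos (n := m) (k := q) (by omega)
    omega
  exact h1.trans_le (Nat.choose_le_choose p hmn)

theorem Data.final2 {N : Subgroup G} [N.Normal] {M : Subgroup (G ⧸ N)} (D : Data G n N M) (h : Hyp2 G n) (hn : 13 ≤ n)
    {m : ℕ} (e : M ≃* alternatingGroup (Fin m)) (hm : 2 * Nat.card M = m.factorial) :
    Nonempty (G ≃* alternatingGroup (Fin n)) := by
  have hMn := D.normal
  have hcardG := card_eq' N M
  have hMpos : 0 < Nat.card M := Nat.card_pos
  have hmn : m ≤ n := by
    by_contra hlt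
    have h1 : (n + 1).factorial ∣ m.factorial := Nat.factorial_dvd_factorial (by omega)
    have h2 : m.factorial ∣ n.factorial := by
      rw [← hm, ← h.card]
      exact Nat.mul_dvd_mul_left 2 D.card_dvd
    have h3 := Nat.le_of_dvd n.factorial_pos (h1.trans h2)
    rw [Nat.factorial_succ] at h3
    have := n.factorial_pos
    nlinarith only [hn, h3, this]
  obtain ⟨q, hq, hqn, hq4⟩ := exists_large_prime hn
  have hqm : q ≤ m := by
    rw [← hq.dvd_factorial, ← hm]
    exact (D.primes q hq (by omega) hqn).mul_left 2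
  have hm13 : 13 ≤ m := by
    rcases Nat.lt_or_ge n 26 with h26 | h26
    · rw [← (show Nat.Prime 13 by norm_num).dvd_factorial, ← hm]
      exact (D.primes 13 (by norm_num) (by omega) (by omega)).mul_left 2
    · omega
  -- the Sylow numbers
  have : Fact q.Prime := ⟨hq⟩
  have hqM := D.primes q hq (by omega) hqn
  have hqN : q ∣ N.index := by
    rw [Subgroup.index_eq_card, ← M.card_mul_index]
    exact hqM.mul_right _
  have h1 := h.fac_one hq (by omega) hqn (by omega)
  have hNm : ∀ t, (Nat.card N).factorization t + m.factorial.factorization t ≤ n.factorial.factorization t := by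
    intro t
    have h2 : Nat.card N * m.factorial ∣ n.factorial := by
      rw [← h.card, hcardG, ← hm]
      exact ⟨M.index, by ring⟩
    have h3 := (Nat.factorization_le_iff_dvd (Nat.mul_ne_zero Nat.card_pos.ne' (Nat.factorial_ne_zero _))
      (Nat.factorial_ne_zero _)).mpr h2 t
    rwa [Nat.factorization_mul Nat.card_pos.ne' (Nat.factorial_ne_zero _), Finsupp.add_apply] at h3
  have hsyl : Nat.card (Sylow q G) = Nat.card (Sylow q (G ⧸ N)) := by
    apply Nat.eq_of_factorization_eq Nat.card_pos.ne' Nat.card_pos.ne'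
    intro t
    by_cases ht : t.Prime
    swap
    · rw [Nat.factorization_eq_zero_of_not_prime _ ht, Nat.factorization_eq_zero_of_not_prime _ ht]
    by_cases htq : t = q
    · subst htq
      rw [Nat.factorization_eq_zero_of_not_dvd (not_dvd_card_sylow t G),
        Nat.factorization_eq_zero_of_not_dvd (not_dvd_card_sylow t (G ⧸ N))]
    obtain ⟨P, S, hSN, hS, hfr, hPS⟩ := exists_frame ht htq h1 N hqN
    have hbd := fac_bound hm13 hmn (by omega) ht
    have := hNm t
    obtain ⟨x, hx, hxo⟩ := exists_centralizing_alt (by omega) e ht hS hfr (by omega) hq hqm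
    have hc : Nat.card (zpowers x) = q ^ (Nat.card G).factorization q := by
      rw [h1, pow_one, Nat.card_zpowers, hxo]
    refine factorization_sylow_eq_of ht N (Sylow.ofCard (zpowers x) hc) hSN hS ?_
    rw [Sylow.coe_ofCard, ← le_centralizer_iff, zpowers_le]
    exact hx
  have h2 : Nat.card (Sylow q G) = Nat.card (Sylow q (alternatingGroup (Fin m))) := by
    rw [hsyl, card_sylow_section h1 N M hqM]
    exact card_sylow_congr e
  have h3 := h.syl q hq (by omega) hqn (by omega)
  have h4 := Alt.card_sylow_alt (n := m) (p := q) (by omega) hqm (by omega)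
  have hmn' : m = n := by
    by_contra hne
    have hlt := choose_lt (n := n) hq.one_le hqm (by omega)
    have e1 := Nat.choose_mul_factorial_mul_factorial hqn
    have e2 := Nat.choose_mul_factorial_mul_factorial hqm
    rw [h2] at h3
    have hpos : 0 < (n - q).factorial * (m - q).factorial * q.factorial := by positivity
    have e3 : n.factorial * (m - q).factorial = m.factorial * (n - q).factorial := by
      rw [← h3, ← h4]
      ring
    rw [← e1, ← e2] at e3
    have e4 : n.choose q * ((n - q).factorial * (m - q).factorial * q.factorial) =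
        m.choose q * ((n - q).factorial * (m - q).factorial * q.factorial) := by
      calc _ = n.choose q * q.factorial * (n - q).factorial * (m - q).factorial := by ring
        _ = _ := e3
        _ = _ := by ring
    have := Nat.eq_of_mul_eq_mul_right hpos e4
    omega
  subst hmn'
  have h5 : Nat.card G = Nat.card M := by
    have := h.card
    omega
  have h6 : Nat.card N * M.index = 1 := by
    apply Nat.eq_of_mul_eq_mul_right hMpos
    calc Nat.card N * M.index * Nat.card M = Nat.card N * (Nat.card M * M.index) := by ring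
      _ = Nat.card G := hcardG.symm
      _ = Nat.card M := h5
      _ = 1 * Nat.card M := (one_mul _).symm
  have hN1 : Nat.card N = 1 := Nat.eq_one_of_mul_eq_one_right h6
  have hI1 : M.index = 1 := Nat.eq_one_of_mul_eq_one_left h6
  have htop : M = ⊤ := Subgroup.index_eq_one.mp hI1
  have hsub : Function.Bijective M.subtype := by
    refine ⟨M.subtype_injective, ?_⟩
    intro x
    exact ⟨⟨x, by rw [htop]; exact mem_top x⟩, rfl⟩
  exact ⟨(equivOf N (Subgroup.card_eq_one.mp hN1)).trans ((MulEquiv.ofBijective M.subtype hsub).symm.trans e)⟩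

end Cfsg.Agent.H428.SylNorm
end

-- part: H428/SylNorm/Small
section
/-!
# Groups with the Sylow numbers of `A_n` for the large primes, `5 ≤ n ≤ 12` (helper428)
-/

set_option autoImplicit false

namespace Cfsg.Agent.H428.SylNorm

open Subgroup Cfsg Cfsg.Agent.OrdDiv Cfsg.Agent.H357.Reduce Cfsg.Agent.H363.AltPrimes

universe u

/-- the check -/
def chkS (l : List (ℕ × ℕ)) (N D : ℕ) (L : List Grp) : Bool :=
  valid l N && (cands l N).all fun g => decide (g ∈ L) || !(ordN g % D == 0)

theorem chk7 : chkS [(2, 3), (3, 2), (5, 1), (7, 1)] 2520 105 [.alt 7] = true := by decide +kernel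
theorem chk8 : chkS [(2, 6), (3, 2), (5, 1), (7, 1)] 20160 105 [.alt 7, .alt 8, .psl 4 2, .psl 3 4] = true := by decide +kernel
theorem chk9 : chkS [(2, 6), (3, 4), (5, 1), (7, 1)] 181440 945 [.alt 9] = true := by decide +kernel
theorem chk10 : chkS [(2, 7), (3, 4), (5, 2), (7, 1)] 1814400 1575 [.alt 10, .j2] = true := by decide +kernel
theorem chk11 : chkS [(2, 7), (3, 4), (5, 2), (7, 1), (11, 1)] 19958400 3991680 [.alt 11] = true := by decide +kernel
theorem chk12 : chkS [(2, 9), (3, 5), (5, 2), (7, 1), (11, 1)] 239500800 197120 [.alt 12] = true := by decide +kernel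
theorem chk6 : chkS [(2, 3), (3, 2), (5, 1)] 360 180 [.alt 6, .psl 2 9] = true := by decide +kernel
theorem chk5 : chkS [(2, 2), (3, 1), (5, 1)] 60 30 [.alt 5, .psl 2 4, .psl 2 5] = true := by decide +kernel

theorem mul_dvd_of {a b c m : ℕ} (hab : Nat.Coprime a b) (hc : a * b = c) (ha : a ∣ m) (hb : b ∣ m) : c ∣ m := by
  rw [← hc]
  exact Nat.Coprime.mul_dvd_of_dvd_of_dvd hab ha hb

theorem of_chkS (T : OrderTable.{u}) {M : Type u} [Group M] (hk : IsKnownSimple' M)
    (hna : ¬ ∀ a b : M, a * b = b * a) {l : List (ℕ × ℕ)} {N D : ℕ} {L : List Grp} (hchk : chkS l N D L = true)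
    (hd : Nat.card M ∣ N) (hD : D ∣ Nat.card M) : ∃ g ∈ L, Real g M ∧ Nat.card M = ordN g := by
  unfold chkS at hchk
  rw [Bool.and_eq_true, List.all_eq_true] at hchk
  obtain ⟨g, hg, hr, ho⟩ := exists_good T hk hna hchk.1 hd
  have h1 := hchk.2 g hg
  rw [Bool.or_eq_true] at h1
  rcases h1 with h1 | h1
  · exact ⟨g, of_decide_eq_true h1, hr, ho⟩
  · exfalso
    rw [Bool.not_eq_true', ← ho] at h1
    have h2 := Nat.mod_eq_zero_of_dvd hD
    rw [h2] at h1
    exact absurd h1 (by simp)

variable {G : Type u} [Group G] [Finite G] {n : ℕ}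

theorem sec_dvd {p t k B : ℕ} [hp : Fact p.Prime] (ht : t.Prime) (htp : t ≠ p)
    (h1 : (Nat.card G).factorization p = 1) (N : Subgroup G) [N.Normal] (M : Subgroup (G ⧸ N)) [M.Normal]
    (hpM : p ∣ Nat.card M) (hk : t ^ k ∣ Nat.card (Sylow p G)) (hB : ¬ t ^ (B + 1) ∣ Nat.card N)
    (hno : ∀ c, 1 ≤ c → c ≤ B → ¬ p ∣ t ^ c - 1) : t ^ k ∣ Nat.card M := by
  rw [ht.pow_dvd_iff_le_factorization Nat.card_pos.ne'] at hk ⊢
  refine hk.trans (section_fac ht htp h1 N M hpM fun c hc1 hc2 => hno c hc1 ?_)
  by_contra hlt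
  exact hB ((ht.pow_dvd_iff_le_factorization Nat.card_pos.ne').mpr (by omega))

theorem iso_of_card (N : Subgroup G) [N.Normal] (M : Subgroup (G ⧸ N)) (hc : Nat.card M = Nat.card G) :
    Nonempty (G ≃* M) := by
  have hMpos : 0 < Nat.card M := Nat.card_pos
  have h6 : Nat.card N * M.index = 1 := by
    apply Nat.eq_of_mul_eq_mul_right hMpos
    calc Nat.card N * M.index * Nat.card M = Nat.card N * (Nat.card M * M.index) := by ring
      _ = Nat.card G := (card_eq' N M).symm
      _ = Nat.card M := hc.symm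
      _ = 1 * Nat.card M := (one_mul _).symm
  have hN1 : Nat.card N = 1 := Nat.eq_one_of_mul_eq_one_right h6
  have hI1 : M.index = 1 := Nat.eq_one_of_mul_eq_one_left h6
  have htop : M = ⊤ := Subgroup.index_eq_one.mp hI1
  have hsub : Function.Bijective M.subtype := by
    refine ⟨M.subtype_injective, ?_⟩
    intro x
    exact ⟨⟨x, by rw [htop]; exact mem_top x⟩, rfl⟩
  exact ⟨(equivOf N (Subgroup.card_eq_one.mp hN1)).trans (MulEquiv.ofBijective M.subtype hsub).symm⟩

/-- the data for a prime `p > n / 2`; `q` another prime dividing the order of the section -/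
theorem small_data (h : Hyp2 G n) {p : ℕ} [hp : Fact p.Prime] (hp5 : 5 ≤ p) (hpn : p ≤ n) (hnp : n < 2 * p) {q : ℕ}
    (hq : q.Prime) (hqp : q ≠ p) (hqd : q ^ 1 ∣ Nat.card (Sylow p G)) {B : ℕ} (hB : ¬ q ^ (B + 1) ∣ Nat.card G)
    (hno : ∀ c, 1 ≤ c → c ≤ B → ¬ p ∣ q ^ c - 1) :
    ∃ (N : Subgroup G) (_ : N.Normal) (M : Subgroup (G ⧸ N)) (_ : M.Normal), IsSimpleGroup M ∧ p ∣ Nat.card M ∧
      (¬ ∀ a b : M, a * b = b * a) ∧ centralizer (M : Set (G ⧸ N)) = ⊥ ∧ Nat.card M ∣ Nat.card G ∧
      (∀ t k B : ℕ, t.Prime → t ≠ p → t ^ k ∣ Nat.card (Sylow p G) → ¬ t ^ (B + 1) ∣ Nat.card G →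
        (∀ c, 1 ≤ c → c ≤ B → ¬ p ∣ t ^ c - 1) → t ^ k ∣ Nat.card M) := by
  have h1 := h.fac_one hp.out hp5 hpn hnp
  obtain ⟨N, hN, M, hM, hsimple, hpM, hpN, hcent⟩ := locate hp.out h1
  have key : ∀ t k B : ℕ, t.Prime → t ≠ p → t ^ k ∣ Nat.card (Sylow p G) → ¬ t ^ (B + 1) ∣ Nat.card G →
      (∀ c, 1 ≤ c → c ≤ B → ¬ p ∣ t ^ c - 1) → t ^ k ∣ Nat.card M := by
    intro t k B ht htp hk hB hno
    exact sec_dvd ht htp h1 N M hpM hk (fun h2 => hB (h2.trans (Subgroup.card_subgroup_dvd_card N))) hno
  have hna : ¬ ∀ a b : M, a * b = b * a := by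
    intro hcommM
    let _ : CommGroup M := { (inferInstance : Group M) with mul_comm := hcommM }
    have hprime : (Nat.card M).Prime := IsSimpleGroup.prime_card
    have h2 := key q 1 B hq hqp hqd hB hno
    rw [pow_one] at h2
    have h3 := (Nat.prime_dvd_prime_iff_eq hp.out hprime).mp hpM
    have h4 := (Nat.prime_dvd_prime_iff_eq hq hprime).mp h2
    exact hqp (h4.trans h3.symm)
  refine ⟨N, hN, M, hM, hsimple, hpM, hna, hcent hna, ?_, key⟩
  rw [card_eq' N M]
  exact (Nat.dvd_mul_right _ _).mul_left _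

theorem case7 (T : OrderTable.{u}) (h : Hyp2 G 7)
    (hcl : ∀ (S : Type u) [Group S] [Finite S] [IsSimpleGroup S], IsKnownSimple' S) :
    Nonempty (G ≃* alternatingGroup (Fin 7)) := by
  have : Fact (Nat.Prime 7) := ⟨by norm_num⟩
  have hG : Nat.card G = 2520 := by
    have h0 : 2 * Nat.card G = 5040 := h.card.trans (by decide +kernel)
    omega
  have hs : Nat.card (Sylow 7 G) = 120 := by
    have h0 : Nat.card (Sylow 7 G) * 42 = 5040 := by
      have h1 := h.syl 7 (by norm_num) (by norm_num) (by norm_num) (by norm_num)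
      rw [show Nat.factorial 7 = 5040 by decide +kernel, show 7 * (7 - 1) * Nat.factorial (7 - 7) = 42 by decide +kernel] at h1
      exact h1
    omega
  have h3 : ∀ c, 1 ≤ c → c ≤ 2 → ¬ 7 ∣ 3 ^ c - 1 := by intro c h1 h2; interval_cases c <;> norm_num
  have h5 : ∀ c, 1 ≤ c → c ≤ 1 → ¬ 7 ∣ 5 ^ c - 1 := by intro c h1 h2; interval_cases c <;> norm_num
  obtain ⟨N, hN, M, hM, hsimple, hpM, hna, hcent, hMG, key⟩ := small_data h (p := 7) (by norm_num) (by norm_num)
    (by norm_num) (q := 3) (B := 2) (by norm_num) (by norm_num) (by rw [hs]; norm_num) (by rw [hG]; norm_num) h3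
  have k3 := key 3 1 2 (by norm_num) (by norm_num) (by rw [hs]; norm_num) (by rw [hG]; norm_num) h3
  have k5 := key 5 1 1 (by norm_num) (by norm_num) (by rw [hs]; norm_num) (by rw [hG]; norm_num) h5
  have hD : 105 ∣ Nat.card M := (mul_dvd_of (a := 21) (b := 5 ^ 1) (c := 105) (by norm_num) (by norm_num) (mul_dvd_of (a := 7) (b := 3 ^ 1) (c := 21) (by norm_num) (by norm_num) hpM k3) k5)
  rw [hG] at hMG
  obtain ⟨g, hg, hr, ho⟩ := of_chkS T (hcl M) hna chk7 hMG hD
  simp only [List.mem_cons, List.not_mem_nil, or_false] at hg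
  subst hg
  obtain ⟨e⟩ := hr
  obtain ⟨f⟩ := iso_of_card N M (by rw [ho, hG]; decide +kernel)
  exact ⟨f.trans e⟩

theorem case9 (T : OrderTable.{u}) (h : Hyp2 G 9)
    (hcl : ∀ (S : Type u) [Group S] [Finite S] [IsSimpleGroup S], IsKnownSimple' S) :
    Nonempty (G ≃* alternatingGroup (Fin 9)) := by
  have : Fact (Nat.Prime 7) := ⟨by norm_num⟩
  have hG : Nat.card G = 181440 := by
    have h0 : 2 * Nat.card G = 362880 := h.card.trans (by decide +kernel)
    omega
  have hs : Nat.card (Sylow 7 G) = 4320 := by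
    have h0 : Nat.card (Sylow 7 G) * 84 = 362880 := by
      have h1 := h.syl 7 (by norm_num) (by norm_num) (by norm_num) (by norm_num)
      rw [show Nat.factorial 9 = 362880 by decide +kernel, show 7 * (7 - 1) * Nat.factorial (9 - 7) = 84 by decide +kernel] at h1
      exact h1
    omega
  have h3 : ∀ c, 1 ≤ c → c ≤ 4 → ¬ 7 ∣ 3 ^ c - 1 := by intro c h1 h2; interval_cases c <;> norm_num
  have h5 : ∀ c, 1 ≤ c → c ≤ 1 → ¬ 7 ∣ 5 ^ c - 1 := by intro c h1 h2; interval_cases c <;> norm_num
  obtain ⟨N, hN, M, hM, hsimple, hpM, hna, hcent, hMG, key⟩ := small_data h (p := 7) (by norm_num) (by norm_num)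
    (by norm_num) (q := 3) (B := 4) (by norm_num) (by norm_num) (by rw [hs]; norm_num) (by rw [hG]; norm_num) h3
  have k3 := key 3 3 4 (by norm_num) (by norm_num) (by rw [hs]; norm_num) (by rw [hG]; norm_num) h3
  have k5 := key 5 1 1 (by norm_num) (by norm_num) (by rw [hs]; norm_num) (by rw [hG]; norm_num) h5
  have hD : 945 ∣ Nat.card M := (mul_dvd_of (a := 189) (b := 5 ^ 1) (c := 945) (by norm_num) (by norm_num) (mul_dvd_of (a := 7) (b := 3 ^ 3) (c := 189) (by norm_num) (by norm_num) hpM k3) k5)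
  rw [hG] at hMG
  obtain ⟨g, hg, hr, ho⟩ := of_chkS T (hcl M) hna chk9 hMG hD
  simp only [List.mem_cons, List.not_mem_nil, or_false] at hg
  subst hg
  obtain ⟨e⟩ := hr
  obtain ⟨f⟩ := iso_of_card N M (by rw [ho, hG]; decide +kernel)
  exact ⟨f.trans e⟩

theorem case11 (T : OrderTable.{u}) (h : Hyp2 G 11)
    (hcl : ∀ (S : Type u) [Group S] [Finite S] [IsSimpleGroup S], IsKnownSimple' S) :
    Nonempty (G ≃* alternatingGroup (Fin 11)) := by
  have : Fact (Nat.Prime 11) := ⟨by norm_num⟩
  have hG : Nat.card G = 19958400 := by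
    have h0 : 2 * Nat.card G = 39916800 := h.card.trans (by decide +kernel)
    omega
  have hs : Nat.card (Sylow 11 G) = 362880 := by
    have h0 : Nat.card (Sylow 11 G) * 110 = 39916800 := by
      have h1 := h.syl 11 (by norm_num) (by norm_num) (by norm_num) (by norm_num)
      rw [show Nat.factorial 11 = 39916800 by decide +kernel, show 11 * (11 - 1) * Nat.factorial (11 - 11) = 110 by decide +kernel] at h1
      exact h1
    omega
  have h2 : ∀ c, 1 ≤ c → c ≤ 7 → ¬ 11 ∣ 2 ^ c - 1 := by intro c h1 h2; interval_cases c <;> norm_num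
  have h3 : ∀ c, 1 ≤ c → c ≤ 4 → ¬ 11 ∣ 3 ^ c - 1 := by intro c h1 h2; interval_cases c <;> norm_num
  have h5 : ∀ c, 1 ≤ c → c ≤ 2 → ¬ 11 ∣ 5 ^ c - 1 := by intro c h1 h2; interval_cases c <;> norm_num
  have h7 : ∀ c, 1 ≤ c → c ≤ 1 → ¬ 11 ∣ 7 ^ c - 1 := by intro c h1 h2; interval_cases c <;> norm_num
  obtain ⟨N, hN, M, hM, hsimple, hpM, hna, hcent, hMG, key⟩ := small_data h (p := 11) (by norm_num) (by norm_num)
    (by norm_num) (q := 2) (B := 7) (by norm_num) (by norm_num) (by rw [hs]; norm_num) (by rw [hG]; norm_num) h2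
  have k2 := key 2 7 7 (by norm_num) (by norm_num) (by rw [hs]; norm_num) (by rw [hG]; norm_num) h2
  have k3 := key 3 4 4 (by norm_num) (by norm_num) (by rw [hs]; norm_num) (by rw [hG]; norm_num) h3
  have k5 := key 5 1 2 (by norm_num) (by norm_num) (by rw [hs]; norm_num) (by rw [hG]; norm_num) h5
  have k7 := key 7 1 1 (by norm_num) (by norm_num) (by rw [hs]; norm_num) (by rw [hG]; norm_num) h7
  have hD : 3991680 ∣ Nat.card M := (mul_dvd_of (a := 570240) (b := 7 ^ 1) (c := 3991680) (by norm_num) (by norm_num) (mul_dvd_of (a := 114048) (b := 5 ^ 1) (c := 570240) (by norm_num) (by norm_num) (mul_dvd_of (a := 1408) (b := 3 ^ 4) (c := 114048) (by norm_num) (by norm_num) (mul_dvd_of (a := 11) (b := 2 ^ 7) (c := 1408) (by norm_num) (by norm_num) hpM k2) k3) k5) k7)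
  rw [hG] at hMG
  obtain ⟨g, hg, hr, ho⟩ := of_chkS T (hcl M) hna chk11 hMG hD
  simp only [List.mem_cons, List.not_mem_nil, or_false] at hg
  subst hg
  obtain ⟨e⟩ := hr
  obtain ⟨f⟩ := iso_of_card N M (by rw [ho, hG]; decide +kernel)
  exact ⟨f.trans e⟩

theorem case12 (T : OrderTable.{u}) (h : Hyp2 G 12)
    (hcl : ∀ (S : Type u) [Group S] [Finite S] [IsSimpleGroup S], IsKnownSimple' S) :
    Nonempty (G ≃* alternatingGroup (Fin 12)) := by
  have : Fact (Nat.Prime 11) := ⟨by norm_num⟩
  have hG : Nat.card G = 239500800 := by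
    have h0 : 2 * Nat.card G = 479001600 := h.card.trans (by decide +kernel)
    omega
  have hs : Nat.card (Sylow 11 G) = 4354560 := by
    have h0 : Nat.card (Sylow 11 G) * 110 = 479001600 := by
      have h1 := h.syl 11 (by norm_num) (by norm_num) (by norm_num) (by norm_num)
      rw [show Nat.factorial 12 = 479001600 by decide +kernel, show 11 * (11 - 1) * Nat.factorial (12 - 11) = 110 by decide +kernel] at h1
      exact h1
    omega
  have h2 : ∀ c, 1 ≤ c → c ≤ 9 → ¬ 11 ∣ 2 ^ c - 1 := by intro c h1 h2; interval_cases c <;> norm_num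
  have h5 : ∀ c, 1 ≤ c → c ≤ 2 → ¬ 11 ∣ 5 ^ c - 1 := by intro c h1 h2; interval_cases c <;> norm_num
  have h7 : ∀ c, 1 ≤ c → c ≤ 1 → ¬ 11 ∣ 7 ^ c - 1 := by intro c h1 h2; interval_cases c <;> norm_num
  obtain ⟨N, hN, M, hM, hsimple, hpM, hna, hcent, hMG, key⟩ := small_data h (p := 11) (by norm_num) (by norm_num)
    (by norm_num) (q := 2) (B := 9) (by norm_num) (by norm_num) (by rw [hs]; norm_num) (by rw [hG]; norm_num) h2
  have k2 := key 2 9 9 (by norm_num) (by norm_num) (by rw [hs]; norm_num) (by rw [hG]; norm_num) h2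
  have k5 := key 5 1 2 (by norm_num) (by norm_num) (by rw [hs]; norm_num) (by rw [hG]; norm_num) h5
  have k7 := key 7 1 1 (by norm_num) (by norm_num) (by rw [hs]; norm_num) (by rw [hG]; norm_num) h7
  have hD : 197120 ∣ Nat.card M := (mul_dvd_of (a := 28160) (b := 7 ^ 1) (c := 197120) (by norm_num) (by norm_num) (mul_dvd_of (a := 5632) (b := 5 ^ 1) (c := 28160) (by norm_num) (by norm_num) (mul_dvd_of (a := 11) (b := 2 ^ 9) (c := 5632) (by norm_num) (by norm_num) hpM k2) k5) k7)
  rw [hG] at hMG
  obtain ⟨g, hg, hr, ho⟩ := of_chkS T (hcl M) hna chk12 hMG hD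
  simp only [List.mem_cons, List.not_mem_nil, or_false] at hg
  subst hg
  obtain ⟨e⟩ := hr
  obtain ⟨f⟩ := iso_of_card N M (by rw [ho, hG]; decide +kernel)
  exact ⟨f.trans e⟩

theorem case5 (T : OrderTable.{u}) (h : Hyp2 G 5)
    (hcl : ∀ (S : Type u) [Group S] [Finite S] [IsSimpleGroup S], IsKnownSimple' S) :
    Nonempty (G ≃* alternatingGroup (Fin 5)) := by
  have : Fact (Nat.Prime 5) := ⟨by norm_num⟩
  have hG : Nat.card G = 60 := by
    have h0 : 2 * Nat.card G = 120 := h.card.trans (by decide +kernel)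
    omega
  have hs : Nat.card (Sylow 5 G) = 6 := by
    have h0 : Nat.card (Sylow 5 G) * 20 = 120 := by
      have h1 := h.syl 5 (by norm_num) (by norm_num) (by norm_num) (by norm_num)
      rw [show Nat.factorial 5 = 120 by decide +kernel, show 5 * (5 - 1) * Nat.factorial (5 - 5) = 20 by decide +kernel] at h1
      exact h1
    omega
  have h2 : ∀ c, 1 ≤ c → c ≤ 2 → ¬ 5 ∣ 2 ^ c - 1 := by intro c h1 h2; interval_cases c <;> norm_num
  have h3 : ∀ c, 1 ≤ c → c ≤ 1 → ¬ 5 ∣ 3 ^ c - 1 := by intro c h1 h2; interval_cases c <;> norm_num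
  obtain ⟨N, hN, M, hM, hsimple, hpM, hna, hcent, hMG, key⟩ := small_data h (p := 5) (by norm_num) (by norm_num)
    (by norm_num) (q := 2) (B := 2) (by norm_num) (by norm_num) (by rw [hs]; norm_num) (by rw [hG]; norm_num) h2
  have k2 := key 2 1 2 (by norm_num) (by norm_num) (by rw [hs]; norm_num) (by rw [hG]; norm_num) h2
  have k3 := key 3 1 1 (by norm_num) (by norm_num) (by rw [hs]; norm_num) (by rw [hG]; norm_num) h3
  have hD : 30 ∣ Nat.card M := (mul_dvd_of (a := 10) (b := 3 ^ 1) (c := 30) (by norm_num) (by norm_num) (mul_dvd_of (a := 5) (b := 2 ^ 1) (c := 10) (by norm_num) (by norm_num) hpM k2) k3)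
  rw [hG] at hMG
  obtain ⟨g, hg, hr, ho⟩ := of_chkS T (hcl M) hna chk5 hMG hD
  simp only [List.mem_cons, List.not_mem_nil, or_false] at hg
  have hM60 : Nat.card M = 60 := by
    rw [ho]
    rcases hg with rfl | rfl | rfl <;> decide +kernel
  obtain ⟨e⟩ := S0494.result hM60
  obtain ⟨f⟩ := iso_of_card N M (by rw [hM60, hG])
  exact ⟨f.trans e⟩

theorem case6 (T : OrderTable.{u}) (h : Hyp2 G 6)
    (hcl : ∀ (S : Type u) [Group S] [Finite S] [IsSimpleGroup S], IsKnownSimple' S) :
    Nonempty (G ≃* alternatingGroup (Fin 6)) := by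
  have : Fact (Nat.Prime 5) := ⟨by norm_num⟩
  have hG : Nat.card G = 360 := by
    have h0 : 2 * Nat.card G = 720 := h.card.trans (by decide +kernel)
    omega
  have hs : Nat.card (Sylow 5 G) = 36 := by
    have h0 : Nat.card (Sylow 5 G) * 20 = 720 := by
      have h1 := h.syl 5 (by norm_num) (by norm_num) (by norm_num) (by norm_num)
      rw [show Nat.factorial 6 = 720 by decide +kernel, show 5 * (5 - 1) * Nat.factorial (6 - 5) = 20 by decide +kernel] at h1
      exact h1
    omega
  have h2 : ∀ c, 1 ≤ c → c ≤ 3 → ¬ 5 ∣ 2 ^ c - 1 := by intro c h1 h2; interval_cases c <;> norm_num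
  have h3 : ∀ c, 1 ≤ c → c ≤ 2 → ¬ 5 ∣ 3 ^ c - 1 := by intro c h1 h2; interval_cases c <;> norm_num
  obtain ⟨N, hN, M, hM, hsimple, hpM, hna, hcent, hMG, key⟩ := small_data h (p := 5) (by norm_num) (by norm_num)
    (by norm_num) (q := 2) (B := 3) (by norm_num) (by norm_num) (by rw [hs]; norm_num) (by rw [hG]; norm_num) h2
  have k2 := key 2 2 3 (by norm_num) (by norm_num) (by rw [hs]; norm_num) (by rw [hG]; norm_num) h2
  have k3 := key 3 2 2 (by norm_num) (by norm_num) (by rw [hs]; norm_num) (by rw [hG]; norm_num) h3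
  have hD : 180 ∣ Nat.card M := (mul_dvd_of (a := 20) (b := 3 ^ 2) (c := 180) (by norm_num) (by norm_num) (mul_dvd_of (a := 5) (b := 2 ^ 2) (c := 20) (by norm_num) (by norm_num) hpM k2) k3)
  rw [hG] at hMG
  obtain ⟨g, hg, hr, ho⟩ := of_chkS T (hcl M) hna chk6 hMG hD
  simp only [List.mem_cons, List.not_mem_nil, or_false] at hg
  have hM60 : Nat.card M = 360 := by
    rw [ho]
    rcases hg with rfl | rfl <;> decide +kernel
  obtain ⟨e⟩ := S0497.result hM60
  obtain ⟨f⟩ := iso_of_card N M (by rw [hM60, hG])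
  exact ⟨f.trans e⟩

end Cfsg.Agent.H428.SylNorm
end

-- part: H428/SylNorm/Eight
section
/-!
# Groups with the Sylow numbers of `A_8` (helper428)
-/

set_option autoImplicit false

namespace Cfsg.Agent.H428.SylNorm

open Subgroup Cfsg Cfsg.Agent.OrdDiv Cfsg.Agent.H357.Reduce Cfsg.Agent.H363.AltPrimes

universe u

variable {G : Type u} [Group G] [Finite G] {n : ℕ}

/-- the normalizer modulo the centralizer of a subgroup of prime order -/
theorem card_normalizer_dvd {p : ℕ} (hp : p.Prime) {P : Subgroup G} (hP : Nat.card P = p) :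
    Nat.card (normalizer (P : Set G)) ∣ Nat.card (centralizer (P : Set G)) * (p - 1) := by
  have : Fact p.Prime := ⟨hp⟩
  have : IsCyclic P := isCyclic_of_prime_card hP
  have h1 := (P.normalizerMonoidHom).ker.card_mul_index
  rw [Subgroup.index_ker, normalizerMonoidHom_ker] at h1
  have h2 : Nat.card ((centralizer (P : Set G)).subgroupOf (normalizer (P : Set G))) =
      Nat.card (centralizer (P : Set G)) :=
    Nat.card_congr (Subgroup.subgroupOfEquivOfLe (centralizer_le_normalizer _)).toEquiv
  have h3 : Nat.card P.normalizerMonoidHom.range ∣ p - 1 := by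
    have h4 := Subgroup.card_subgroup_dvd_card P.normalizerMonoidHom.range
    rwa [IsCyclic.card_mulAut, hP, Nat.totient_prime hp] at h4
  rw [← h1, h2]
  exact Nat.mul_dvd_mul_left _ h3

theorem case8 (T : OrderTable.{u}) (h : Hyp2 G 8)
    (hcl : ∀ (S : Type u) [Group S] [Finite S] [IsSimpleGroup S], IsKnownSimple' S) :
    Nonempty (G ≃* alternatingGroup (Fin 8)) := by
  have : Fact (Nat.Prime 7) := ⟨by norm_num⟩
  have : Fact (Nat.Prime 5) := ⟨by norm_num⟩
  have hG : Nat.card G = 20160 := by
    have h0 : 2 * Nat.card G = 40320 := h.card.trans (by decide +kernel)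
    omega
  have hs : Nat.card (Sylow 7 G) = 960 := by
    have h0 : Nat.card (Sylow 7 G) * 42 = 40320 := by
      have h1 := h.syl 7 (by norm_num) (by norm_num) (by norm_num) (by norm_num)
      rw [show Nat.factorial 8 = 40320 by decide +kernel, show 7 * (7 - 1) * Nat.factorial (8 - 7) = 42 by decide +kernel] at h1
      exact h1
    omega
  have hs5 : Nat.card (Sylow 5 G) = 336 := by
    have h0 : Nat.card (Sylow 5 G) * 120 = 40320 := by
      have h1 := h.syl 5 (by norm_num) (by norm_num) (by norm_num) (by norm_num)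
      rw [show Nat.factorial 8 = 40320 by decide +kernel, show 5 * (5 - 1) * Nat.factorial (8 - 5) = 120 by decide +kernel] at h1
      exact h1
    omega
  have h3 : ∀ c, 1 ≤ c → c ≤ 2 → ¬ 7 ∣ 3 ^ c - 1 := by intro c h1 h2; interval_cases c <;> norm_num
  have h5 : ∀ c, 1 ≤ c → c ≤ 1 → ¬ 7 ∣ 5 ^ c - 1 := by intro c h1 h2; interval_cases c; norm_num
  obtain ⟨N, hN, M, hM, hsimple, hpM, hna, hcent, hMG, key⟩ := small_data h (p := 7) (by norm_num) (by norm_num)
    (by norm_num) (q := 3) (B := 2) (by norm_num) (by norm_num) (by rw [hs]; norm_num) (by rw [hG]; norm_num) h3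
  have k3 := key 3 1 2 (by norm_num) (by norm_num) (by rw [hs]; norm_num) (by rw [hG]; norm_num) h3
  have k5 := key 5 1 1 (by norm_num) (by norm_num) (by rw [hs]; norm_num) (by rw [hG]; norm_num) h5
  have hD : 105 ∣ Nat.card M := (mul_dvd_of (a := 21) (b := 5 ^ 1) (c := 105) (by norm_num) (by norm_num)
    (mul_dvd_of (a := 7) (b := 3 ^ 1) (c := 21) (by norm_num) (by norm_num) hpM k3) k5)
  rw [hG] at hMG
  obtain ⟨g, hg, hr, ho⟩ := of_chkS T (hcl M) hna chk8 hMG hD
  simp only [List.mem_cons, List.not_mem_nil, or_false] at hg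
  have h1 := h.fac_one (p := 5) (by norm_num) (by norm_num) (by norm_num) (by norm_num)
  have hcG := card_eq' N M
  rcases hg with rfl | rfl | rfl | rfl
  · -- `A_7`
    exfalso
    have hM7 : Nat.card M = 2520 := by rw [ho]; decide +kernel
    have h16 : 2 ^ 4 ∣ Nat.card M := by
      refine sec_dvd (p := 5) (B := 3) (by norm_num) (by norm_num) h1 N M (by rw [hM7]; norm_num) (by rw [hs5]; norm_num)
        ?_ (by intro c h1 h2; interval_cases c <;> norm_num)
      intro h2
      rw [hG, hM7] at hcG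
      have h3 : Nat.card N ∣ 8 := ⟨M.index, by linarith only [hcG]⟩
      have h4 := Nat.le_of_dvd (by norm_num) (h2.trans h3)
      norm_num at h4
    rw [hM7] at h16
    norm_num at h16
  · obtain ⟨e⟩ := hr
    obtain ⟨f⟩ := iso_of_card N M (by rw [ho, hG]; decide +kernel)
    exact ⟨f.trans e⟩
  · obtain ⟨F, _, _, hF, ⟨e⟩⟩ := hr
    obtain ⟨f⟩ := iso_of_card N M (by rw [ho, hG]; decide +kernel)
    obtain ⟨e'⟩ := S0256.result hF
    exact ⟨(f.trans e).trans e'⟩
  · exfalso
    obtain ⟨F, _, _, hF, ⟨e⟩⟩ := hr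
    obtain ⟨f⟩ := iso_of_card N M (by rw [ho, hG]; decide +kernel)
    obtain ⟨P⟩ : Nonempty (Sylow 5 G) := inferInstance
    have hP : Nat.card (P : Subgroup G) = 5 := by
      rw [P.card_eq_multiplicity, h1, pow_one]
    have h2 : 2 * Nat.card (normalizer ((P : Subgroup G) : Set G)) = 120 := by
      rw [h.norm (p := 5) (by norm_num) (by norm_num) (by norm_num) P]
      decide +kernel
    have h3 := card_normalizer_dvd (by norm_num) hP
    have h4 : 3 ∣ Nat.card (centralizer ((P : Subgroup G) : Set G)) := by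
      have h5 : Nat.card (normalizer ((P : Subgroup G) : Set G)) = 60 := by omega
      rw [h5] at h3
      omega
    have : Fact (Nat.Prime 3) := ⟨by norm_num⟩
    obtain ⟨y, hy⟩ := exists_prime_orderOf_dvd_card' 3 h4
    obtain ⟨x, hx⟩ := exists_prime_orderOf_dvd_card' (G := (P : Subgroup G)) 5 (by rw [hP])
    have h5 : Commute (x : G) (y : G) := mem_centralizer_iff.mp y.2 x x.2
    have h6 : orderOf ((x : G) * (y : G)) = 15 := by
      have hx' : orderOf (x : G) = 5 := by rw [Subgroup.orderOf_coe, hx]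
      have hy' : orderOf (y : G) = 3 := by rw [Subgroup.orderOf_coe, hy]
      rw [h5.orderOf_mul_eq_mul_orderOf_of_coprime (by rw [hx', hy']; norm_num), hx', hy']
    apply S0819.result hF ((f.trans e) ((x : G) * y))
    rw [← h6]
    exact orderOf_injective (f.trans e).toMonoidHom (f.trans e).injective _

end Cfsg.Agent.H428.SylNorm
end

private theorem dce_8bb3c8cf76ee : _root_.True := by
  try have : _root_.True := by simp only [_root_.Cfsg.Agent.H428.SylNorm.Alt.orbF.eq_1]
  exact _root_.True.intro
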